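import Groth.Agent.Pic13.H958.LocRig

/-!
# The presheaf of functions vanishing on `Z₀` and `Y`, and the exponential

`KP b i σ` : the presheaf on `W` of the functions on `Z` over `b⁻¹ U` which vanish on `Z₀` and on `Y`.
`expP q b : KP b i σ ⟶ (relUnits b σ).obj`, `x ↦ 1 + x`.
-/

set_option autoImplicit false
set_option linter.unusedSectionVars false
universe u

open CategoryTheory CategoryTheory.Limits AlgebraicGeometry TopologicalSpace Opposite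

namespace Groth.Agent.Pic13.H958.Kil

open Groth.Agent.Fdesc Groth.Agent.Fdesc.LocGen Groth.Agent.Picfga Groth.Agent.Picfga.LineHom
  Groth.Agent.Picfga.LineDescent Groth.Agent.Picfga.LineFam
open Groth.Agent
open Groth.Agent.CohtopA.Sec (Γs)
open Groth.Agent.Pic13.H958.RelUnits Groth.Agent.Pic13.H602.Rig Groth.Agent.Pic13.H958.Coc
open Groth.Agent.Pic13.H958.AffLift Groth.Agent.Pic13.H958.Ord
open Groth.Agent.Ega3B Cube CubeData CombRes CoefSys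

section Def

variable {W Z Z₀ Y : Scheme.{u}} (b : Z ⟶ W) (i : Z₀ ⟶ Z) (σ : Y ⟶ Z)

/-- The ideal of the functions vanishing on `Z₀` and `Y`. -/
def kil (V : Z.Opens) : Ideal Γ(Z, V) := RingHom.ker (i.app V).hom ⊓ RingHom.ker (σ.app V).hom

variable {i σ}

theorem mem_kil {V : Z.Opens} {x : Γ(Z, V)} : x ∈ kil i σ V ↔ i.app V x = 0 ∧ σ.app V x = 0 := Iff.rfl

theorem ores_mem_kil {V V' : Z.Opens} (h : V' ≤ V) {x : Γ(Z, V)} (hx : x ∈ kil i σ V) :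
    ores h x ∈ kil i σ V' := by
  rw [mem_kil] at hx ⊢
  rw [app_ores, app_ores, hx.1, hx.2, map_zero, map_zero]
  exact ⟨rfl, rfl⟩

variable (i σ)

/-- Restriction. -/
noncomputable def kres {V V' : Z.Opens} (h : V' ≤ V) : kil i σ V →+ kil i σ V' where
  toFun x := ⟨ores h x.1, ores_mem_kil h x.2⟩
  map_zero' := Subtype.ext (map_zero _)
  map_add' _ _ := Subtype.ext (map_add _ _ _)

/-- The presheaf on `W` of functions on `Z` vanishing on `Z₀` and `Y`. -/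
noncomputable def KP : (Opens W)ᵒᵖ ⥤ AddCommGrpCat.{u} where
  obj U := AddCommGrpCat.of (kil i σ (b ⁻¹ᵁ U.unop))
  map {U U'} h := AddCommGrpCat.ofHom (kres i σ (b.preimage_mono (leOfHom h.unop)))
  map_id U := by
    ext x
    exact ores_refl (x : kil i σ (b ⁻¹ᵁ U.unop)).1
  map_comp {U U' U''} h h' := by
    ext x
    exact (ores_ores _ _ (x : kil i σ (b ⁻¹ᵁ U.unop)).1).symm

variable {b i σ}

/-- The function underlying a section of `KP`. -/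
def kval {U : W.Opens} (x : (KP b i σ).obj (op U)) : Γ(Z, b ⁻¹ᵁ U) := x.1

theorem kval_injective {U : W.Opens} : Function.Injective (kval (b := b) (i := i) (σ := σ) (U := U)) :=
  Subtype.val_injective

theorem kval_add {U : W.Opens} (x y : (KP b i σ).obj (op U)) : kval (x + y) = kval x + kval y := rfl

theorem kval_zero {U : W.Opens} : kval (0 : (KP b i σ).obj (op U)) = 0 := rfl

theorem kval_rs {U U' : W.Opens} (h : U' ≤ U) (x : (KP b i σ).obj (op U)) :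
    kval (rs (KP b i σ) h x) = ores (b.preimage_mono h) (kval x) := rfl

theorem app_kval₀ {U : W.Opens} (x : (KP b i σ).obj (op U)) : i.app _ (kval x) = 0 := x.2.1

theorem app_kval {U : W.Opens} (x : (KP b i σ).obj (op U)) : σ.app _ (kval x) = 0 := x.2.2

/-- Constructor. -/
def kmk {U : W.Opens} (x : Γ(Z, b ⁻¹ᵁ U)) (h₀ : i.app _ x = 0) (h : σ.app _ x = 0) :
    (KP b i σ).obj (op U) := ⟨x, h₀, h⟩

@[simp] theorem kval_kmk {U : W.Opens} (x : Γ(Z, b ⁻¹ᵁ U)) (h₀ : i.app _ x = 0) (h : σ.app _ x = 0) :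
    kval (kmk x h₀ h : (KP b i σ).obj (op U)) = x := rfl

end Def

section Exp

variable {W Z Z₀ Y Y₀ : Scheme.{u}} {i : Z₀ ⟶ Z} {σ : Y ⟶ Z} {σ₀ : Y₀ ⟶ Z₀} {k : Y₀ ⟶ Y}
  (q : Quad i σ σ₀ k) (b : Z ⟶ W)

/-- The unit `1 + x`. -/
def expU {U : W.Opens} (x : (KP b i σ).obj (op U)) : Γ(Z, b ⁻¹ᵁ U)ˣ where
  val := 1 + kval x
  inv := 1 - kval x
  val_inv := by linear_combination -q.nil _ _ (app_kval₀ x) (app_kval₀ x)
  inv_val := by linear_combination -q.nil _ _ (app_kval₀ x) (app_kval₀ x)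

theorem app_expU {U : W.Opens} (x : (KP b i σ).obj (op U)) :
    σ.app (b ⁻¹ᵁ U) (expU q b x : Γ(Z, b ⁻¹ᵁ U)) = 1 := by
  change σ.app _ (1 + kval x) = 1
  rw [map_add, map_one, app_kval, add_zero]

/-- The exponential on sections. -/
noncomputable def expSec (U : W.Opens) : (KP b i σ).obj (op U) →+ Γs (relUnits b σ) U where
  toFun x := rmk b σ (expU q b x) (app_expU q b x)
  map_zero' := by
    apply rval_injective
    apply Units.ext
    rw [rval_rmk, rval_zero]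
    change 1 + kval (0 : (KP b i σ).obj (op U)) = 1
    rw [kval_zero, add_zero]
  map_add' x y := by
    apply rval_injective
    apply Units.ext
    rw [rval_rmk, rval_add, rval_rmk, rval_rmk]
    change 1 + kval (x + y) = (1 + kval x) * (1 + kval y)
    rw [kval_add]
    linear_combination -q.nil _ _ (app_kval₀ x) (app_kval₀ y)

theorem rval_expSec {U : W.Opens} (x : (KP b i σ).obj (op U)) :
    (rval b σ (expSec q b U x) : Γ(Z, b ⁻¹ᵁ U)) = 1 + kval x := by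
  exact congrArg Units.val (rval_rmk b σ (expU q b x) (app_expU q b x))

theorem expSec_injective (U : W.Opens) : Function.Injective (expSec q b U) := by
  intro x y h
  apply kval_injective
  have h1 := congrArg (fun t => (rval b σ t : Γ(Z, b ⁻¹ᵁ U))) h
  change (rval b σ (expSec q b U x) : Γ(Z, b ⁻¹ᵁ U)) = (rval b σ (expSec q b U y) : Γ(Z, b ⁻¹ᵁ U)) at h1
  rw [rval_expSec, rval_expSec] at h1
  exact add_left_cancel h1

/-- The exponential. -/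
noncomputable def expP : KP b i σ ⟶ (relUnits b σ).obj where
  app U := AddCommGrpCat.ofHom (expSec q b U.unop)
  naturality U U' h := by
    ext x
    apply rval_injective
    apply Units.ext
    change (rval b σ (expSec q b U'.unop (rs (KP b i σ) (leOfHom h.unop) x)) : Γ(Z, b ⁻¹ᵁ U'.unop)) =
      (rval b σ (rs (relUnits b σ).obj (leOfHom h.unop) (expSec q b U.unop x)) : Γ(Z, b ⁻¹ᵁ U'.unop))
    rw [rval_expSec, rval_rs, rval_expSec, kval_rs, map_add, map_one]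

theorem expP_app {U : W.Opens} (x : (KP b i σ).obj (op U)) : (expP q b).app (op U) x = expSec q b U x := rfl

theorem exists_expSec {U : W.Opens} (s : Γs (relUnits b σ) U)
    (hs : CohtopA.Sec.m (relMap (q.pair b)) U s = 0) : ∃ x, expSec q b U x = s := by
  have h1 : i.app (b ⁻¹ᵁ U) (rval b σ s : Γ(Z, b ⁻¹ᵁ U)) = 1 := by
    have h2 := rval_relMap_fn (q.pair b) s
    rw [hs, rval_zero] at h2
    refine Eq.trans ?_ h2.symm
    exact (ores_refl _).symm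
  refine ⟨kmk ((rval b σ s : Γ(Z, b ⁻¹ᵁ U)) - 1) ?_ ?_, ?_⟩
  · rw [map_sub, h1, map_one, sub_self]
  · rw [map_sub, app_rval, map_one, sub_self]
  · apply rval_injective
    apply Units.ext
    rw [rval_expSec, kval_kmk]
    ring

theorem m_expSec {U : W.Opens} (x : (KP b i σ).obj (op U)) :
    CohtopA.Sec.m (relMap (q.pair b)) U (expSec q b U x) = 0 := by
  apply rval_injective
  apply Units.ext
  rw [rval_relMap_fn, rval_expSec, rval_zero, map_add, map_one, fn_apply]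
  have h1 : (q.pair b).h.app (b ⁻¹ᵁ U) (kval x) = 0 := app_kval₀ x
  rw [h1, map_zero, add_zero]
  rfl

end Exp

section Cochains

variable {W Z Z₀ Y Y₀ : Scheme.{u}} {i : Z₀ ⟶ Z} {σ : Y ⟶ Z} {σ₀ : Y₀ ⟶ Z₀} {k : Y₀ ⟶ Y}
  (q : Quad i σ σ₀ k) (b : Z ⟶ W) {ι : Type} [LinearOrder ι] [Fintype ι] (U : ι → W.Opens)

theorem Kmap_exp_injective (n : ℕ) : Function.Injective ((cech U).Kmap n (expP q b)) := by
  intro x y h
  funext B
  exact expSec_injective q b _ (congrFun h B)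

theorem exists_Kmap_exp (n : ℕ) (c : (cech U).K n (relUnits b σ).obj)
    (hc : (cech U).Kmap n (relMap (q.pair b)).hom c = 0) :
    ∃ x, (cech U).Kmap n (expP q b) x = c := by
  choose x hx using fun B => exists_expSec q b (c B) (congrFun hc B)
  exact ⟨x, funext hx⟩

theorem Kmap_relMap_exp (n : ℕ) (x : (cech U).K n (KP b i σ)) :
    (cech U).Kmap n (relMap (q.pair b)).hom ((cech U).Kmap n (expP q b) x) = 0 := by
  funext B
  exact m_expSec q b (x B)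

theorem Kmap_relMap_surjective (n : ℕ) (hU : ∀ s : Finset ι, s.Nonempty → IsAffineOpen (b ⁻¹ᵁ (s.inf U))) :
    Function.Surjective ((cech U).Kmap n (relMap (q.pair b)).hom) := by
  intro c
  choose x hx using fun B : BB (ι := ι) NE 1 n => q.exists_unit_lift b (hU B.1 B.2.1) (c B)
  exact ⟨x, funext hx⟩

end Cochains

section Hom

variable {W Z₁ Z₀₁ Y₁ Y₀₁ Z₂ Z₀₂ Y₂ Y₀₂ : Scheme.{u}} {i₁ : Z₀₁ ⟶ Z₁} {σ₁ : Y₁ ⟶ Z₁} {σ₀₁ : Y₀₁ ⟶ Z₀₁}
  {k₁ : Y₀₁ ⟶ Y₁} {i₂ : Z₀₂ ⟶ Z₂} {σ₂ : Y₂ ⟶ Z₂} {σ₀₂ : Y₀₂ ⟶ Z₀₂}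
  {k₂ : Y₀₂ ⟶ Y₂} (q₁ : Quad i₁ σ₁ σ₀₁ k₁) (q₂ : Quad i₂ σ₂ σ₀₂ k₂) {b₁ : Z₁ ⟶ W} {b₂ : Z₂ ⟶ W}
  (p : PairHom b₁ σ₁ b₂ σ₂) (p₀ : PairHom (i₁ ≫ b₁) σ₀₁ (i₂ ≫ b₂) σ₀₂) (hp : p₀.h ≫ i₁ = i₂ ≫ p.h)

theorem relMap_congr {Z₁ Z₂ Y₁ Y₂ : Scheme.{u}} {b₁ : Z₁ ⟶ W} {y₁ : Y₁ ⟶ Z₁} {b₂ : Z₂ ⟶ W}
    {y₂ : Y₂ ⟶ Z₂} (p p' : PairHom b₁ y₁ b₂ y₂) (h : p.h = p'.h) : relMap p = relMap p' := by
  apply hom_ext_m
  intro U s
  apply rval_injective
  apply Units.ext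
  rw [rval_relMap, rval_relMap, appU_val, appU_val]
  simp only [h]

include hp in
theorem relMap_comm : relMap p ≫ relMap (q₂.pair b₂) = relMap (q₁.pair b₁) ≫ relMap p₀ := by
  rw [← relMap_comp, ← relMap_comp]
  exact relMap_congr _ _ hp.symm

/-- Functoriality of `KP`. -/
noncomputable def kmap (U : W.Opens) : (KP b₁ i₁ σ₁).obj (op U) →+ (KP b₂ i₂ σ₂).obj (op U) where
  toFun x := kmk (fn p.h (le_of_comp p.w U) (kval x)) (by
      have h1 : i₂ ⁻¹ᵁ b₂ ⁻¹ᵁ U ≤ (p₀.h ≫ i₁) ⁻¹ᵁ (b₁ ⁻¹ᵁ U) := by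
        rw [hp]
        exact i₂.preimage_mono (le_of_comp p.w U)
      have e1 : i₂.app (b₂ ⁻¹ᵁ U) (fn p.h (le_of_comp p.w U) (kval x)) =
          fn (i₂ ≫ p.h) (i₂.preimage_mono (le_of_comp p.w U)) (kval x) := by
        rw [← fn_comp p.h i₂ (le_of_comp p.w U) (le_refl (i₂ ⁻¹ᵁ b₂ ⁻¹ᵁ U))]
        exact (ores_refl _).symm
      rw [e1, fn_congr hp.symm, ← fn_comp i₁ p₀.h (le_refl (i₁ ⁻¹ᵁ b₁ ⁻¹ᵁ U)) h1]
      have e2 : fn i₁ (le_refl (i₁ ⁻¹ᵁ b₁ ⁻¹ᵁ U)) (kval x) = 0 := by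
        rw [fn_apply, app_kval₀, map_zero]
      rw [e2, map_zero]) (by
      have h1 : σ₂ ⁻¹ᵁ b₂ ⁻¹ᵁ U ≤ (p.k ≫ σ₁) ⁻¹ᵁ (b₁ ⁻¹ᵁ U) := by
        rw [p.sq]
        exact σ₂.preimage_mono (le_of_comp p.w U)
      have e1 : σ₂.app (b₂ ⁻¹ᵁ U) (fn p.h (le_of_comp p.w U) (kval x)) =
          fn (σ₂ ≫ p.h) (σ₂.preimage_mono (le_of_comp p.w U)) (kval x) := by
        rw [← fn_comp p.h σ₂ (le_of_comp p.w U) (le_refl (σ₂ ⁻¹ᵁ b₂ ⁻¹ᵁ U))]
        exact (ores_refl _).symm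
      rw [e1, fn_congr p.sq.symm, ← fn_comp σ₁ p.k (le_refl (σ₁ ⁻¹ᵁ b₁ ⁻¹ᵁ U)) h1]
      have e2 : fn σ₁ (le_refl (σ₁ ⁻¹ᵁ b₁ ⁻¹ᵁ U)) (kval x) = 0 := by
        rw [fn_apply, app_kval, map_zero]
      rw [e2, map_zero])
  map_zero' := by
    apply kval_injective
    rw [kval_kmk, kval_zero, map_zero, kval_zero]
  map_add' x y := by
    apply kval_injective
    rw [kval_kmk, kval_add, map_add, kval_add, kval_kmk, kval_kmk]

theorem kval_kmap {U : W.Opens} (x : (KP b₁ i₁ σ₁).obj (op U)) :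
    kval (kmap p p₀ hp U x) = fn p.h (le_of_comp p.w U) (kval x) := rfl

/-- Functoriality of `KP`. -/
noncomputable def kP : KP b₁ i₁ σ₁ ⟶ KP b₂ i₂ σ₂ where
  app U := AddCommGrpCat.ofHom (kmap p p₀ hp U.unop)
  naturality U U' h := by
    ext x
    apply kval_injective
    change kval (kmap p p₀ hp U'.unop (rs (KP b₁ i₁ σ₁) (leOfHom h.unop) x)) =
      kval (rs (KP b₂ i₂ σ₂) (leOfHom h.unop) (kmap p p₀ hp U.unop x))
    rw [kval_kmap, kval_rs, kval_rs, kval_kmap, fn_ores, ores_fn]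

theorem exp_comm : expP q₁ b₁ ≫ (relMap p).hom = kP p p₀ hp ≫ expP q₂ b₂ := by
  ext U x
  apply rval_injective
  apply Units.ext
  change (rval b₂ σ₂ (CohtopA.Sec.m (relMap p) U.unop (expSec q₁ b₁ U.unop x)) : Γ(Z₂, b₂ ⁻¹ᵁ U.unop)) =
    (rval b₂ σ₂ (expSec q₂ b₂ U.unop (kmap p p₀ hp U.unop x)) : Γ(Z₂, b₂ ⁻¹ᵁ U.unop))
  rw [rval_relMap_fn, rval_expSec, rval_expSec, kval_kmap, map_add, map_one]

end Hom

end Groth.Agent.Pic13.H958.Kil
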