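import Groth.Agent.Pic13.H958.Kil

/-!
# Lifts of a rigidified module and cochains

`q₁`, `q₂` quads over `W`, related by `p`, `p₀`; `g` a `1`-cochain of relative units of the first one whose image `c₀` in
the relative units of `(Z₀₁, Y₀₁)` is the transition cocycle of `R₀₁`; `δ g = exp z`. `Has g R k`: the rigidified
module `R` on `(Z₂, Y₂)` has rigid generators with transition cocycle `g|₂ + exp k`.

* `exists_has`: every `R` restricting to the pull back of `R₀₁` has such a `k`, and `δ k = - z|₂`;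
* `exists_of_cochain`: every `k` with `δ k = - z|₂` occurs;
* `rel_iff_of_has`: two such modules are isomorphic iff the `k`'s differ by a coboundary.
-/

set_option autoImplicit false
set_option linter.unusedSectionVars false
universe u

open CategoryTheory CategoryTheory.Limits AlgebraicGeometry TopologicalSpace Opposite

namespace Groth.Agent.Pic13.H958.Lifts

open Groth.Agent.Fdesc Groth.Agent.Fdesc.LocGen Groth.Agent.Picfga Groth.Agent.Picfga.LineHom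
  Groth.Agent.Picfga.LineDescent Groth.Agent.Picfga.LineFam
open Groth.Agent
open Groth.Agent.CohtopA.Sec (Γs)
open Groth.Agent.Pic13.H958.RelUnits Groth.Agent.Pic13.H602.Rig Groth.Agent.Pic13.H958.Coc
open Groth.Agent.Pic13.H958.AffLift Groth.Agent.Pic13.H958.Ord Groth.Agent.Pic13.H958.Kil
open Groth.Agent.Ega3B Cube CubeData CombRes CoefSys

section H0

variable {W Z Y : Scheme.{u}} (b : Z ⟶ W) (σ : Y ⟶ Z) {ι : Type} [LinearOrder ι] [Fintype ι]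
  {U : ι → W.Opens}

/-- If functions on `Z` are determined by their restriction to `Y`, then there are no nonzero `0`-cocycles. -/
theorem eq_zero_of_δ (hU : ⨆ i, U i = ⊤) (hinj : Function.Injective σ.appTop)
    (h : (cech U).K 0 (relUnits b σ).obj) (hh : (cech U).δ 0 _ h = 0) : h = 0 := by
  let s : ∀ i : ι, Γs (relUnits b σ) (U i) := fun i => rs (relUnits b σ).obj (le_sg U le_rfl) (h (sg i))
  have hs' : ∀ (i j : ι) (hij : i < j) (T : W.Opens) (hi : T ≤ U i) (hj : T ≤ U j),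
      rs (relUnits b σ).obj hi (s i) = rs (relUnits b σ).obj hj (s j) := by
    intro i j hij T hi hj
    have h1 := congrArg (rs (relUnits b σ).obj (le_pr U hij hi hj)) (congrFun hh (pr i j hij))
    rw [δ_zero] at h1
    change _ = rs _ _ (0 : (relUnits b σ).obj.obj _) at h1
    rw [map_sub, map_zero, rs_rs, rs_rs, sub_eq_zero] at h1
    rw [rs_rs, rs_rs]
    exact h1.symm
  have hs : ∀ i j, CohtopA.Sec.r (relUnits b σ) (inf_le_left : U i ⊓ U j ≤ U i) (s i) =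
      CohtopA.Sec.r (relUnits b σ) (inf_le_right : U i ⊓ U j ≤ U j) (s j) := by
    intro i j
    rcases lt_trichotomy i j with hij | rfl | hij
    · exact hs' i j hij _ _ _
    · rfl
    · exact (hs' j i hij _ _ _).symm
  obtain ⟨t, ht⟩ := CohtopA.Sec.glue' (F := relUnits b σ) (U := ⊤) U hU.symm s hs
  have ht0 : t = 0 := by
    apply rval_injective
    apply Units.ext
    rw [rval_zero, Units.val_one]
    apply hinj
    have h1 : σ.appTop (rval b σ t : Γ(Z, b ⁻¹ᵁ ⊤)) = 1 := app_rval b σ t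
    exact h1.trans (map_one σ.appTop.hom).symm
  apply K0_ext
  intro i
  have h1 := ht i
  rw [ht0, map_zero] at h1
  have h2 : rs (relUnits b σ).obj (sg_le U i) (s i) = h (sg i) := by
    change rs _ _ (rs _ _ _) = _
    rw [rs_rs, rs_self]
  rw [← h2, ← h1, map_zero]
  rfl

end H0

section Main

variable {W Z₁ Z₀₁ Y₁ Y₀₁ Z₂ Z₀₂ Y₂ Y₀₂ : Scheme.{u}} {i₁ : Z₀₁ ⟶ Z₁} {σ₁ : Y₁ ⟶ Z₁} {σ₀₁ : Y₀₁ ⟶ Z₀₁}
  {k₁ : Y₀₁ ⟶ Y₁} {i₂ : Z₀₂ ⟶ Z₂} {σ₂ : Y₂ ⟶ Z₂} {σ₀₂ : Y₀₂ ⟶ Z₀₂}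
  {k₂ : Y₀₂ ⟶ Y₂} (q₁ : Quad i₁ σ₁ σ₀₁ k₁) (q₂ : Quad i₂ σ₂ σ₀₂ k₂) {b₁ : Z₁ ⟶ W} {b₂ : Z₂ ⟶ W}
  (p : PairHom b₁ σ₁ b₂ σ₂) (p₀ : PairHom (i₁ ≫ b₁) σ₀₁ (i₂ ≫ b₂) σ₀₂) (hp : p₀.h ≫ i₁ = i₂ ≫ p.h)
  {ι : Type} [LinearOrder ι] [Fintype ι] {U : ι → W.Opens}
  (g : (cech U).K 1 (relUnits b₁ σ₁).obj) (z : (cech U).K 2 (KP b₁ i₁ σ₁))

/-- `R` has rigid generators with transition cocycle `g + exp k`. -/
def Has (R : RB σ₂) (k : (cech U).K 1 (KP b₂ i₂ σ₂)) : Prop :=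
  ∃ e : ∀ i, Γ(R.L, b₂ ⁻¹ᵁ U i), (∀ i, Rigid R (e i)) ∧
    Tr b₂ σ₂ U R e ((cech U).Kmap 1 (relMap p).hom g + (cech U).Kmap 1 (expP q₂ b₂) k)

variable {g z} (hz : (cech U).δ 1 _ g = (cech U).Kmap 2 (expP q₁ b₁) z)

theorem Kmap_comp {X : TopCat.{u}} (D : Data X) (n : ℕ) {G G' G'' : (Opens X)ᵒᵖ ⥤ AddCommGrpCat.{u}}
    (f : G ⟶ G') (f' : G' ⟶ G'') (x : D.K n G) :
    D.Kmap n f' (D.Kmap n f x) = D.Kmap n (f ≫ f') x := rfl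

include hz in
theorem δ_eq (hp : p₀.h ≫ i₁ = i₂ ≫ p.h) (k : (cech U).K 1 (KP b₂ i₂ σ₂)) :
    (cech U).δ 1 _ ((cech U).Kmap 1 (relMap p).hom g + (cech U).Kmap 1 (expP q₂ b₂) k) =
      (cech U).Kmap 2 (expP q₂ b₂) ((cech U).Kmap 2 (kP p p₀ hp) z + (cech U).δ 1 _ k) := by
  rw [map_add, Data.δ_naturality, Data.δ_naturality, hz, map_add, Kmap_comp, Kmap_comp,
    exp_comm q₁ q₂ p p₀ hp]

include hz in
theorem δ_eq_zero_iff (k : (cech U).K 1 (KP b₂ i₂ σ₂)) :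
    (cech U).δ 1 _ ((cech U).Kmap 1 (relMap p).hom g + (cech U).Kmap 1 (expP q₂ b₂) k) = 0 ↔
      (cech U).δ 1 _ k = - (cech U).Kmap 2 (kP p p₀ hp) z := by
  rw [δ_eq q₁ q₂ p p₀ hz hp k]
  constructor
  · intro h
    have h1 := Kmap_exp_injective q₂ b₂ U 2 (h.trans (map_zero _).symm)
    rw [add_comm, ← eq_neg_iff_add_eq_zero] at h1
    exact h1
  · intro h
    rw [h, add_neg_cancel, map_zero]

theorem Kmap_pair (k : (cech U).K 1 (KP b₂ i₂ σ₂)) (hp : p₀.h ≫ i₁ = i₂ ≫ p.h) :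
    (cech U).Kmap 1 (relMap (q₂.pair b₂)).hom
      ((cech U).Kmap 1 (relMap p).hom g + (cech U).Kmap 1 (expP q₂ b₂) k) =
    (cech U).Kmap 1 (relMap p₀).hom ((cech U).Kmap 1 (relMap (q₁.pair b₁)).hom g) := by
  rw [map_add, Kmap_relMap_exp, add_zero]
  have h1 := relMap_comm q₁ q₂ p p₀ hp
  have h2 := congrArg (fun f => (cech U).Kmap 1 f.hom g) h1
  exact h2

variable {R₀₁ : RB σ₀₁} {R₀₂ : RB σ₀₂} (A₀ : Arr p₀.sq.symm R₀₁ R₀₂)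
  {e₀ : ∀ a, Γ(R₀₁.L, (i₁ ≫ b₁) ⁻¹ᵁ U a)} (he₀ : ∀ a, Rigid R₀₁ (e₀ a))
  (htr₀ : Tr (i₁ ≫ b₁) σ₀₁ U R₀₁ e₀ ((cech U).Kmap 1 (relMap (q₁.pair b₁)).hom g))

include he₀ htr₀ hz A₀ in
/-- Every lift has an attached cochain. -/
theorem exists_has (hU₂ : ∀ a, IsAffineOpen (b₂ ⁻¹ᵁ U a)) {R : RB σ₂} (A : Arr q₂.pb.w.symm R R₀₂) :
    ∃ k : (cech U).K 1 (KP b₂ i₂ σ₂), Has q₂ p g R k ∧
      (cech U).δ 1 _ k = - (cech U).Kmap 2 (kP p p₀ hp) z := by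
  -- rigid generators of `R`
  have hr : ∀ a, Rigid R₀₂ (A₀.θ.on (le_of_comp p₀.w (U a)) (e₀ a)) := fun a => (he₀ a).arr_on p₀ A₀
  choose e he hee using fun a => q₂.exists_rigid_lift (hU₂ a) A (hr a)
  obtain ⟨c, hc, htr⟩ := exists_tr' e he
  have h1 := htr.arr (q₂.pair b₂) A
  have h2 := htr₀.arr p₀ A₀
  have h3 : (fun a => A.θ.on (le_of_comp (q₂.pair b₂).w (U a)) (e a)) =
      fun a => A₀.θ.on (le_of_comp p₀.w (U a)) (e₀ a) := by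
    funext a
    rw [← hee a]
    exact Fam.on_le_rfl _ _
  have h1' := Eq.subst (motive := fun t => Tr (i₂ ≫ b₂) σ₀₂ U R₀₂ t
    ((cech U).Kmap 1 (relMap (q₂.pair b₂)).hom c)) h3 h1
  have h4 := Tr.unique hr h1' h2
  obtain ⟨k, hk⟩ := exists_Kmap_exp q₂ b₂ U 1 (c - (cech U).Kmap 1 (relMap p).hom g) (by
    rw [map_sub, h4, sub_eq_zero]
    have h5 := Kmap_pair q₁ q₂ p p₀ (g := g) 0 hp
    rw [map_zero, add_zero] at h5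
    exact h5.symm)
  have hc' : c = (cech U).Kmap 1 (relMap p).hom g + (cech U).Kmap 1 (expP q₂ b₂) k := by
    rw [hk, add_sub_cancel]
  subst hc'
  exact ⟨k, ⟨e, he, htr⟩, (δ_eq_zero_iff q₁ q₂ p p₀ hp hz k).1 hc⟩

include he₀ htr₀ hz A₀ in
/-- Every cochain occurs. -/
theorem exists_of_cochain (hU : ⨆ i, U i = ⊤) (k : (cech U).K 1 (KP b₂ i₂ σ₂))
    (hk : (cech U).δ 1 _ k = - (cech U).Kmap 2 (kP p p₀ hp) z) :
    ∃ R : RB σ₂, Nonempty (Arr q₂.pb.w.symm R R₀₂) ∧ Has q₂ p g R k := by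
  obtain ⟨R, e, he, htr⟩ := exists_of_cocycle (b := b₂) (σ := σ₂) hU _
    ((δ_eq_zero_iff q₁ q₂ p p₀ hp hz k).2 hk)
  refine ⟨R, ?_, e, he, htr⟩
  have hr : ∀ a, Rigid R₀₂ (A₀.θ.on (le_of_comp p₀.w (U a)) (e₀ a)) := fun a => (he₀ a).arr_on p₀ A₀
  have h2 := htr₀.arr p₀ A₀
  refine exists_arr_of_tr (q₂.pair b₂) hU he hr htr ?_
  rw [Kmap_pair q₁ q₂ p p₀ k hp]
  exact h2

include q₁ p₀ hp in
/-- Isomorphic lifts have cohomologous cochains and conversely. -/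
theorem rel_iff_of_has (hU : ⨆ i, U i = ⊤)
    (h0 : ∀ h : (cech U).K 0 (relUnits (i₂ ≫ b₂) σ₀₂).obj, (cech U).δ 0 _ h = 0 → h = 0)
    {R R' : RB σ₂} {k k' : (cech U).K 1 (KP b₂ i₂ σ₂)} (h : Has q₂ p g R k) (h' : Has q₂ p g R' k') :
    Rel R R' ↔ ∃ x : (cech U).K 0 (KP b₂ i₂ σ₂), k' = k - (cech U).δ 0 _ x := by
  obtain ⟨e, he, htr⟩ := h
  obtain ⟨e', he', htr'⟩ := h'
  rw [rel_iff hU he he' htr htr']
  constructor
  · rintro ⟨y, hy⟩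
    have h1 := congrArg ((cech U).Kmap 1 (relMap (q₂.pair b₂)).hom) hy
    rw [map_sub, Kmap_pair q₁ q₂ p p₀ k' hp, Kmap_pair q₁ q₂ p p₀ k hp, ← Data.δ_naturality] at h1
    have h2 := h0 _ (sub_eq_self.1 h1.symm)
    obtain ⟨x, rfl⟩ := exists_Kmap_exp q₂ b₂ U 0 y h2
    refine ⟨x, Kmap_exp_injective q₂ b₂ U 1 ?_⟩
    rw [add_sub_assoc] at hy
    rw [map_sub, ← Data.δ_naturality]
    exact add_left_cancel hy
  · rintro ⟨x, rfl⟩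
    refine ⟨(cech U).Kmap 0 (expP q₂ b₂) x, ?_⟩
    rw [map_sub, ← Data.δ_naturality, add_sub_assoc]

end Main

section Functorial

variable {W Z₁ Y₁ Z₂ Z₀₂ Y₂ Y₀₂ Z₃ Z₀₃ Y₃ Y₀₃ : Scheme.{u}} {σ₁ : Y₁ ⟶ Z₁}
  {i₂ : Z₀₂ ⟶ Z₂} {σ₂ : Y₂ ⟶ Z₂} {σ₀₂ : Y₀₂ ⟶ Z₀₂} {k₂ : Y₀₂ ⟶ Y₂}
  {i₃ : Z₀₃ ⟶ Z₃} {σ₃ : Y₃ ⟶ Z₃} {σ₀₃ : Y₀₃ ⟶ Z₀₃} {k₃ : Y₀₃ ⟶ Y₃}
  (q₂ : Quad i₂ σ₂ σ₀₂ k₂) (q₃ : Quad i₃ σ₃ σ₀₃ k₃) {b₁ : Z₁ ⟶ W} {b₂ : Z₂ ⟶ W} {b₃ : Z₃ ⟶ W}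
  (p : PairHom b₁ σ₁ b₂ σ₂) (p' : PairHom b₂ σ₂ b₃ σ₃) (p₀' : PairHom (i₂ ≫ b₂) σ₀₂ (i₃ ≫ b₃) σ₀₃)
  (hp' : p₀'.h ≫ i₂ = i₃ ≫ p'.h) (p'' : PairHom b₁ σ₁ b₃ σ₃) (hpp : p'.h ≫ p.h = p''.h)
  {ι : Type} [LinearOrder ι] [Fintype ι] {U : ι → W.Opens}
  {g : (cech U).K 1 (relUnits b₁ σ₁).obj}

include hpp in
/-- Functoriality of the attached cochains. -/
theorem Has.arr {R : RB σ₂} {R' : RB σ₃} (A : Arr p'.sq.symm R R') {k : (cech U).K 1 (KP b₂ i₂ σ₂)}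
    (h : Has q₂ p g R k) : Has q₃ p'' g R' ((cech U).Kmap 1 (kP p' p₀' hp') k) := by
  obtain ⟨e, he, htr⟩ := h
  refine ⟨_, fun a => (he a).arr_on p' A, ?_⟩
  have h1 := htr.arr p' A
  have h2 : relMap p ≫ relMap p' = relMap p'' := by
    rw [← relMap_comp]
    exact relMap_congr _ _ hpp
  have h3 : (cech U).Kmap 1 (relMap p').hom ((cech U).Kmap 1 (relMap p).hom g) =
      (cech U).Kmap 1 (relMap p'').hom g := congrArg (fun f => (cech U).Kmap 1 f.hom g) h2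
  have h4 : (cech U).Kmap 1 (relMap p').hom ((cech U).Kmap 1 (expP q₂ b₂) k) =
      (cech U).Kmap 1 (expP q₃ b₃) ((cech U).Kmap 1 (kP p' p₀' hp') k) :=
    congrArg (fun f => (cech U).Kmap 1 f k) (exp_comm q₂ q₃ p' p₀' hp')
  rw [map_add, h3, h4] at h1
  exact h1

end Functorial

end Groth.Agent.Pic13.H958.Lifts
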