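import Groth.Agent.Ega3B.KunnethSec
import Groth.Agent.Ega3B.KunnethAlg
import Groth.Agent.VarietyB.BCAlg
import Groth.Agent.Pic13.H958.Kil

/-!
# Base change of the functions vanishing on `Z₀` and `Y`
-/

set_option autoImplicit false
set_option linter.unusedSectionVars false
universe u

open CategoryTheory CategoryTheory.Limits AlgebraicGeometry TopologicalSpace Opposite TensorProduct

namespace Groth.Agent.Pic13.H958.KilBC

open Groth.Agent Groth.Agent.VarietyB.BCAlg Groth.Agent.Ega3B.KunnethAlg Groth.Agent.Ega3B.KunnethSec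

section Alg

theorem flat_prod {R : Type u} [CommRing R] {A B : Type u} [AddCommGroup A] [Module R A]
    [AddCommGroup B] [Module R B] [Module.Flat R A] [Module.Flat R B] : Module.Flat R (A × B) := by
  rw [Module.Flat.iff_rTensor_preserves_injective_linearMap]
  intro N P _ _ _ _ f hf
  have h1 : (TensorProduct.prodRight R R P A B).toLinearMap ∘ₗ (f.rTensor (A × B)) =
      ((f.rTensor A).prodMap (f.rTensor B)) ∘ₗ (TensorProduct.prodRight R R N A B).toLinearMap := by
    apply TensorProduct.ext'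
    intro x y
    rfl
  have h2 : Function.Injective
      ((TensorProduct.prodRight R R P A B).toLinearMap ∘ₗ (f.rTensor (A × B))) := by
    rw [h1]
    have h3 : Function.Injective ((f.rTensor A).prodMap (f.rTensor B)) :=
      Prod.map_injective.mpr ⟨Module.Flat.rTensor_preserves_injective_linearMap f hf,
        Module.Flat.rTensor_preserves_injective_linearMap f hf⟩
    exact h3.comp (TensorProduct.prodRight R R N A B).injective
  exact Function.Injective.of_comp (f := (TensorProduct.prodRight R R P A B)) h2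

variable {B : Type u} [CommRing B] {R R₀ RY RP : Type u} [AddCommGroup R] [Module B R]
  [AddCommGroup R₀] [Module B R₀] [AddCommGroup RY] [Module B RY] [AddCommGroup RP] [Module B RP]
  (f₀ : R →ₗ[B] R₀) (fY : R →ₗ[B] RY) (g₀ : R₀ →ₗ[B] RP) (gY : RY →ₗ[B] RP)
  (hf₀ : Function.Surjective f₀) (hfY : Function.Surjective fY) (hg₀ : Function.Surjective g₀)
  (comm : ∀ a, g₀ (f₀ a) = gY (fY a))
  (dec : ∀ a, g₀ (f₀ a) = 0 → ∃ n j, a = n + j ∧ f₀ n = 0 ∧ fY j = 0)

include hf₀ hfY hg₀ comm dec in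
theorem pure_ker_prod [Module.Flat B R₀] [Module.Flat B RY] [Module.Flat B RP] :
    Pure (LinearMap.range (f₀.prod fY)) ∧ Pure (LinearMap.ker (f₀.prod fY)) := by
  let dd : R →ₗ[B] R₀ × RY := f₀.prod fY
  let gg : R₀ × RY →ₗ[B] RP := g₀.coprod (-gY)
  have hgg : Function.Surjective gg := by
    intro p
    obtain ⟨a, rfl⟩ := hg₀ p
    exact ⟨(a, 0), by simp [gg]⟩
  have hex : LinearMap.range dd = LinearMap.ker gg := by
    apply le_antisymm
    · rintro _ ⟨a, rfl⟩
      rw [LinearMap.mem_ker]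
      simp [gg, dd, comm]
    · rintro ⟨a, c⟩ hac
      obtain ⟨a, rfl⟩ := hf₀ a
      obtain ⟨c, rfl⟩ := hfY c
      rw [LinearMap.mem_ker] at hac
      have h1 : g₀ (f₀ (a - c)) = 0 := by
        have : g₀ (f₀ a) - gY (fY c) = 0 := by simpa [gg, sub_eq_add_neg] using hac
        rw [map_sub, map_sub, comm c]
        exact this
      obtain ⟨n, j, h, hn, hj⟩ := dec _ h1
      refine ⟨a - n, ?_⟩
      have e : a - n = c + j := by
        have : a = n + j + c := by rw [← h]; abel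
        rw [this]; abel
      change (f₀ (a - n), fY (a - n)) = _
      rw [Prod.mk.injEq]
      exact ⟨by rw [map_sub, hn, sub_zero], by rw [e, map_add, hj, add_zero]⟩
  have hq : Module.Flat B ((R₀ × RY) ⧸ LinearMap.range dd) :=
    Module.Flat.of_linearEquiv ((Submodule.quotEquivOfEq _ _ hex).trans
      (gg.quotKerEquivOfSurjective hgg))
  have hfp : Module.Flat B (R₀ × RY) := flat_prod
  have h1 : Module.Flat B (LinearMap.range dd) := Ega3A.KerTensor.flat_submodule _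
  have h2 : Module.Flat B (R ⧸ LinearMap.ker dd) := Module.Flat.of_linearEquiv dd.quotKerEquivRange
  exact ⟨pure_of_flat_quotient _, pure_of_flat_quotient _⟩

include hf₀ hfY hg₀ comm dec in
theorem exists_ker_rTensor [Module.Flat B R₀] [Module.Flat B RY] [Module.Flat B RP]
    {M : Type u} [AddCommGroup M] [Module B M] (y : R ⊗[B] M) (h1 : f₀.rTensor M y = 0)
    (h2 : fY.rTensor M y = 0) : ∃ c, (LinearMap.ker (f₀.prod fY)).subtype.rTensor M c = y := by
  refine ker_rTensor _ (pure_ker_prod f₀ fY g₀ gY hf₀ hfY hg₀ comm dec).1 y ?_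
  have e : f₀.prod fY = (LinearMap.inl B R₀ RY) ∘ₗ f₀ + (LinearMap.inr B R₀ RY) ∘ₗ fY := by
    ext x <;> simp
  rw [e, LinearMap.rTensor_add, LinearMap.add_apply, LinearMap.rTensor_comp, LinearMap.rTensor_comp,
    LinearMap.comp_apply, LinearMap.comp_apply, h1, h2, map_zero, map_zero, add_zero]

/-- The base change map, with the scalars on the right. -/
noncomputable def cb {B' : Type u} [CommRing B'] [Algebra B B'] {M M' : Type u} [AddCommGroup M] [Module B M]
    [AddCommGroup M'] [Module B' M'] (s : M →ₛₗ[algebraMap B B'] M') : M ⊗[B] B' →+ M' :=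
  (bc s).toAddMonoidHom.comp (TensorProduct.comm B M B').toAddEquiv.toAddMonoidHom

theorem cb_tmul {B' : Type u} [CommRing B'] [Algebra B B'] {M M' : Type u} [AddCommGroup M] [Module B M]
    [AddCommGroup M'] [Module B' M'] (s : M →ₛₗ[algebraMap B B'] M') (m : M) (b : B') :
    cb s (m ⊗ₜ b) = b • s m := by
  change bc s (b ⊗ₜ m) = _
  rw [bc_tmul]

theorem cb_bijective_iff {B' : Type u} [CommRing B'] [Algebra B B'] {M M' : Type u} [AddCommGroup M]
    [Module B M] [AddCommGroup M'] [Module B' M'] (s : M →ₛₗ[algebraMap B B'] M') :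
    Function.Bijective (cb s) ↔ Function.Bijective (bc s) := by
  have : (cb s : M ⊗[B] B' → M') = bc s ∘ (TensorProduct.comm B M B') := rfl
  rw [this]
  exact Function.Bijective.of_comp_iff _ (TensorProduct.comm B M B').bijective

theorem cb_comm {B' : Type u} [CommRing B'] [Algebra B B'] {M M' N N' : Type u} [AddCommGroup M]
    [Module B M] [AddCommGroup M'] [Module B' M'] [AddCommGroup N]
    [Module B N] [AddCommGroup N'] [Module B' N'] (s : M →ₛₗ[algebraMap B B'] M')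
    (t : N →ₛₗ[algebraMap B B'] N') (f : M →ₗ[B] N) (f' : M' →+ N')
    (hf' : ∀ (b : B') (x : M'), f' (b • x) = b • f' x) (h : ∀ m, f' (s m) = t (f m)) (x : M ⊗[B] B') :
    f' (cb s x) = cb t (f.rTensor B' x) := by
  induction x using TensorProduct.induction_on with
  | zero => simp only [map_zero]
  | add x y hx hy => simp only [map_add, hx, hy]
  | tmul a m => rw [LinearMap.rTensor_tmul, cb_tmul, cb_tmul, hf', h]

variable {B' : Type u} [CommRing B'] [Algebra B B'] {R' R₀' RY' : Type u} [AddCommGroup R'] [Module B' R']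
  [AddCommGroup R₀'] [Module B' R₀'] [AddCommGroup RY'] [Module B' RY']
  (f₀' : R' →ₗ[B'] R₀') (fY' : R' →ₗ[B'] RY')
  (s : R →ₛₗ[algebraMap B B'] R') (s₀ : R₀ →ₛₗ[algebraMap B B'] R₀') (sY : RY →ₛₗ[algebraMap B B'] RY')
  (hs : Function.Bijective (bc s)) (hs₀ : Function.Bijective (bc s₀)) (hsY : Function.Bijective (bc sY))
  (h₀ : ∀ a, f₀' (s a) = s₀ (f₀ a)) (hY : ∀ a, fY' (s a) = sY (fY a))
  {K K' : Type u} [AddCommGroup K] [Module B K] [AddCommGroup K'] [Module B' K']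
  (j : K →ₗ[B] R) (j' : K' →ₗ[B'] R') (hj : Function.Injective j) (hj' : Function.Injective j')
  (hK : ∀ x, x ∈ LinearMap.range j ↔ f₀ x = 0 ∧ fY x = 0)
  (hK' : ∀ x, x ∈ LinearMap.range j' → f₀' x = 0 ∧ fY' x = 0)
  (sK : K →ₛₗ[algebraMap B B'] K') (hsK : ∀ x, j' (sK x) = s (j x))

include hf₀ hfY hg₀ comm dec hs hs₀ hsY h₀ hY hj hj' hK hK' hsK in
/-- **Base change of the kernel**. -/
theorem bijective_cb_ker [Module.Flat B R₀] [Module.Flat B RY] [Module.Flat B RP] :
    Function.Bijective (cb sK) := by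
  have hs' := (cb_bijective_iff s).2 hs
  have hs₀' := (cb_bijective_iff s₀).2 hs₀
  have hsY' := (cb_bijective_iff sY).2 hsY
  obtain ⟨p1, p2⟩ := pure_ker_prod f₀ fY g₀ gY hf₀ hfY hg₀ comm dec
  have hrange : LinearMap.range j = LinearMap.ker (f₀.prod fY) := by
    ext x
    rw [hK, LinearMap.mem_ker, LinearMap.prod_apply]
    change _ ↔ (f₀ x, fY x) = (0, 0)
    rw [Prod.mk.injEq]
  let e : K ≃ₗ[B] LinearMap.ker (f₀.prod fY) :=
    (LinearEquiv.ofInjective j hj).trans (LinearEquiv.ofEq _ _ hrange)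
  have he : (LinearMap.ker (f₀.prod fY)).subtype ∘ₗ e.toLinearMap = j := by
    ext x
    rfl
  have hj'2 : ∀ y : K ⊗[B] B', j' (cb sK y) = cb s (j.rTensor B' y) := fun y =>
    cb_comm sK s j j'.toAddMonoidHom (fun b x => j'.map_smul b x) hsK y
  have hjr : Function.Injective (j.rTensor B') := by
    rw [← he, LinearMap.rTensor_comp, LinearMap.coe_comp]
    exact (p2 B').comp (LinearEquiv.rTensor B' e).injective
  constructor
  · intro y y' hyy
    apply hjr
    apply hs'.1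
    rw [← hj'2, ← hj'2, hyy]
  · intro k'
    obtain ⟨y, hy⟩ := hs'.2 (j' k')
    obtain ⟨z1, z2⟩ := hK' (j' k') ⟨k', rfl⟩
    have c1 : f₀.rTensor B' y = 0 := by
      apply hs₀'.1
      rw [map_zero, ← cb_comm s s₀ f₀ f₀'.toAddMonoidHom (fun b x => f₀'.map_smul b x) h₀ y, hy]
      exact z1
    have c2 : fY.rTensor B' y = 0 := by
      apply hsY'.1
      rw [map_zero, ← cb_comm s sY fY fY'.toAddMonoidHom (fun b x => fY'.map_smul b x) hY y, hy]
      exact z2
    obtain ⟨c, rfl⟩ := exists_ker_rTensor f₀ fY g₀ gY hf₀ hfY hg₀ comm dec y c1 c2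
    refine ⟨e.symm.toLinearMap.rTensor B' c, hj' ?_⟩
    rw [hj'2, ← hy]
    congr 1
    rw [← he, ← LinearMap.comp_apply, ← LinearMap.rTensor_comp]
    congr 2
    ext x
    simp

end Alg

section Geom

variable {B B' : Type u} [CommRing B] [CommRing B'] [Algebra B B']

/-- `Spec B' ⟶ Spec B`. -/
noncomputable abbrev sp (B B' : Type u) [CommRing B] [CommRing B'] [Algebra B B'] :
    Spec (CommRingCat.of B') ⟶ Spec (CommRingCat.of B) :=
  Spec.map (CommRingCat.ofHom (algebraMap B B'))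

variable {Z₁ Z₂ : Scheme.{u}} {b : Z₂ ⟶ Z₁} {a₂ : Z₂ ⟶ Spec (CommRingCat.of B')}
  {a₁ : Z₁ ⟶ Spec (CommRingCat.of B)} (H : IsPullback b a₂ a₁ (sp B B'))

/-- The functions on `Z` over `V` as a module over `B`. -/
@[reducible] noncomputable def fnMod {Z : Scheme.{u}} (a : Z ⟶ Spec (CommRingCat.of B)) (V : Z.Opens) :
    Module B Γ(Z, V) := Module.compHom _ (toSec B a V)

theorem toSec_comp {Z : Scheme.{u}} (a : Z ⟶ Spec (CommRingCat.of B')) (V : Z.Opens) (r : B) :
    toSec B (a ≫ sp B B') V r = toSec B' a V (algebraMap B B' r) := by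
  have h : CommRingCat.ofHom (toSec B (a ≫ sp B B') V) =
      CommRingCat.ofHom (algebraMap B B') ≫ CommRingCat.ofHom (toSec B' a V) := by
    rw [toSec_eq, toSec_eq]
    have h1 : (a ≫ sp B B').appLE ⊤ V le_top = (sp B B').appTop ≫ a.appLE ⊤ V le_top := by
      rw [Scheme.Hom.appLE, Scheme.Hom.appLE]
      rfl
    rw [h1, ← Category.assoc, ← Scheme.ΓSpecIso_inv_naturality]
    rfl
  exact congr($h r)

include H in
theorem app_toSec {V : Z₁.Opens} {V₂ : Z₂.Opens} (e : V₂ ≤ b ⁻¹ᵁ V) (r : B) :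
    b.appLE V V₂ e (toSec B a₁ V r) = toSec B' a₂ V₂ (algebraMap B B' r) := by
  rw [appLE_toSec, ← toSec_comp]
  congr 1
  rw [H.w]

/-- Pull back of functions as a semilinear map. -/
noncomputable def fnS {V : Z₁.Opens} {V₂ : Z₂.Opens} (e : V₂ ≤ b ⁻¹ᵁ V) :
    letI := fnMod a₁ V
    letI := fnMod a₂ V₂
    Γ(Z₁, V) →ₛₗ[algebraMap B B'] Γ(Z₂, V₂) :=
  letI := fnMod a₁ V
  letI := fnMod a₂ V₂
  { toFun := b.appLE V V₂ e
    map_add' := map_add _
    map_smul' := fun r x => by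
      change b.appLE V V₂ e (toSec B a₁ V r * x) = toSec B' a₂ V₂ (algebraMap B B' r) * b.appLE V V₂ e x
      rw [map_mul, app_toSec H] }

/-- **Base change of functions over affine opens**. -/
theorem bijective_bc_fnS {V : Z₁.Opens} (hV : IsAffineOpen V) {V₂ : Z₂.Opens} (e : V₂ = b ⁻¹ᵁ V) :
    letI := fnMod a₁ V
    letI := fnMod a₂ V₂
    Function.Bijective (bc (fnS H e.le)) := by
  subst e
  have hV₂ : (b ⁻¹ᵁ V) = b ⁻¹ᵁ V ⊓ a₂ ⁻¹ᵁ ⊤ := (inf_top_eq _).symm
  have h := (isIso_pushoutSection_iff H (US := ⊤) (UT := ⊤) (UX := V) (UY := b ⁻¹ᵁ V) le_top le_top hV₂).mp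
    (isIso_pushoutSection_of_isAffineOpen H (US := ⊤) (UT := ⊤) (UX := V) le_top le_top hV₂
      (isAffineOpen_top _) (isAffineOpen_top _) hV)
  let i1 : Algebra B Γ(Z₁, V) := (toSec B a₁ V).toAlgebra
  let i2 : Algebra B' Γ(Z₂, b ⁻¹ᵁ V) := (toSec B' a₂ (b ⁻¹ᵁ V)).toAlgebra
  let i3 : Algebra Γ(Z₁, V) Γ(Z₂, b ⁻¹ᵁ V) := (b.appLE V (b ⁻¹ᵁ V) le_rfl).hom.toAlgebra
  let i4 : Algebra B Γ(Z₂, b ⁻¹ᵁ V) := ((b.appLE V (b ⁻¹ᵁ V) le_rfl).hom.comp (toSec B a₁ V)).toAlgebra
  have i5 : IsScalarTower B Γ(Z₁, V) Γ(Z₂, b ⁻¹ᵁ V) := IsScalarTower.of_algebraMap_eq (fun _ => rfl)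
  have i6 : IsScalarTower B B' Γ(Z₂, b ⁻¹ᵁ V) := IsScalarTower.of_algebraMap_eq
    (fun r => app_toSec H le_rfl r)
  have h' : IsPushout (CommRingCat.ofHom (toSec B a₁ V)) (CommRingCat.ofHom (algebraMap B B'))
      (b.appLE V (b ⁻¹ᵁ V) le_rfl) (CommRingCat.ofHom (toSec B' a₂ (b ⁻¹ᵁ V))) := by
    refine h.of_iso (Scheme.ΓSpecIso (CommRingCat.of B)) (Iso.refl _)
      (Scheme.ΓSpecIso (CommRingCat.of B')) (Iso.refl _) ?_ ?_ ?_ ?_
    · simp [toSec_eq]
    · have e1 : (sp B B').appLE ⊤ ⊤ le_top = (sp B B').appTop := Scheme.Hom.appLE_eq_app _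
      rw [e1]
      exact Scheme.ΓSpecIso_naturality (CommRingCat.ofHom (algebraMap B B'))
    · simp
    · simp [toSec_eq]
  have hP : Algebra.IsPushout B B' Γ(Z₁, V) Γ(Z₂, b ⁻¹ᵁ V) :=
    Algebra.IsPushout.symm (CommRingCat.isPushout_iff_isPushout.mp h')
  exact (isBaseChange_iff (IsScalarTower.toAlgHom B Γ(Z₁, V) Γ(Z₂, b ⁻¹ᵁ V)).toLinearMap
    (fnS H (le_refl (b ⁻¹ᵁ V))) (fun _ => rfl)).1 hP.out

end Geom

end Groth.Agent.Pic13.H958.KilBC
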