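import Groth.Agent.Pic13.H958.KCBC

/-!
# Flatness of the cochains of `KP`
-/

set_option autoImplicit false
set_option linter.unusedSectionVars false
universe u

open CategoryTheory CategoryTheory.Limits AlgebraicGeometry TopologicalSpace Opposite TensorProduct

namespace Groth.Agent.Pic13.H958.KCFlat

open Groth.Agent Groth.Agent.VarietyB.BCAlg Groth.Agent.Ega3B.KunnethAlg Groth.Agent.Ega3B.KunnethSec
open Groth.Agent.Fdesc Groth.Agent.Fdesc.LocGen Groth.Agent.Picfga Groth.Agent.Picfga.LineFam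
open Groth.Agent.Pic13.H958.RelUnits Groth.Agent.Pic13.H958.AffLift Groth.Agent.Pic13.H958.Ord
open Groth.Agent.Pic13.H958.Kil Groth.Agent.Pic13.H958.KilBC Groth.Agent.Pic13.H958.KMod
  Groth.Agent.Pic13.H958.KCBC
open Groth.Agent.Ega3B Cube CubeData CombRes CoefSys

section Alg

theorem flat_of_pure {B : Type u} [CommRing B] {R : Type u} [AddCommGroup R] [Module B R]
    [Module.Flat B R] {K : Submodule B R} (h : Pure K) : Module.Flat B K := by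
  rw [Module.Flat.iff_lTensor_preserves_injective_linearMap]
  intro N P _ _ _ _ f hf
  have h1 : (K.subtype.rTensor P) ∘ₗ (f.lTensor K) = (f.lTensor R) ∘ₗ (K.subtype.rTensor N) := by
    rw [LinearMap.rTensor_comp_lTensor, LinearMap.lTensor_comp_rTensor]
  have h2 : Function.Injective ((K.subtype.rTensor P) ∘ₗ (f.lTensor K)) := by
    rw [h1]
    exact (Module.Flat.lTensor_preserves_injective_linearMap f hf).comp (h N)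
  exact Function.Injective.of_comp h2

variable {B : Type u} [CommRing B] {R R₀ RY RP K : Type u} [AddCommGroup R] [Module B R]
  [AddCommGroup R₀] [Module B R₀] [AddCommGroup RY] [Module B RY] [AddCommGroup RP] [Module B RP]
  [AddCommGroup K] [Module B K]
  (f₀ : R →ₗ[B] R₀) (fY : R →ₗ[B] RY) (g₀ : R₀ →ₗ[B] RP) (gY : RY →ₗ[B] RP)
  (hf₀ : Function.Surjective f₀) (hfY : Function.Surjective fY) (hg₀ : Function.Surjective g₀)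
  (comm : ∀ a, g₀ (f₀ a) = gY (fY a))
  (dec : ∀ a, g₀ (f₀ a) = 0 → ∃ n j, a = n + j ∧ f₀ n = 0 ∧ fY j = 0)
  (j : K →ₗ[B] R) (hj : Function.Injective j)
  (hK : ∀ x, x ∈ LinearMap.range j ↔ f₀ x = 0 ∧ fY x = 0)

include hf₀ hfY hg₀ comm dec hj hK in
theorem flat_of_ker [Module.Flat B R] [Module.Flat B R₀] [Module.Flat B RY] [Module.Flat B RP] :
    Module.Flat B K := by
  have h := flat_of_pure (pure_ker_prod f₀ fY g₀ gY hf₀ hfY hg₀ comm dec).2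
  have hrange : LinearMap.range j = LinearMap.ker (f₀.prod fY) := by
    ext x
    rw [hK, LinearMap.mem_ker, LinearMap.prod_apply]
    change _ ↔ (f₀ x, fY x) = (0, 0)
    rw [Prod.mk.injEq]
  exact Module.Flat.of_linearEquiv ((LinearEquiv.ofInjective j hj).trans (LinearEquiv.ofEq _ _ hrange))

end Alg

section Sections

variable {B : Type u} [CommRing B] {W Z₁ Z₀₁ Y₁ Y₀₁ : Scheme.{u}} {i₁ : Z₀₁ ⟶ Z₁} {σ₁ : Y₁ ⟶ Z₁}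
  {σ₀₁ : Y₀₁ ⟶ Z₀₁} {k₁ : Y₀₁ ⟶ Y₁} (q₁ : Quad i₁ σ₁ σ₀₁ k₁) {b₁ : Z₁ ⟶ W}
  {a₁ : Z₁ ⟶ Spec (CommRingCat.of B)}

include q₁ in
theorem flat_kM [Flat a₁] [Flat (i₁ ≫ a₁)] [Flat (σ₁ ≫ a₁)] [Flat (σ₀₁ ≫ i₁ ≫ a₁)] {U : W.Opens}
    (hU : IsAffineOpen (b₁ ⁻¹ᵁ U)) :
    letI := kM (b := b₁) (i := i₁) (σ := σ₁) a₁ U
    Module.Flat B ((KP b₁ i₁ σ₁).obj (op U)) := by
  have := q₁.ci
  have := q₁.cσ
  have hσ₀ : IsClosedImmersion σ₀₁ := MorphismProperty.of_isPullback q₁.pb q₁.cσ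
  let V := b₁ ⁻¹ᵁ U
  have hle : σ₀₁ ⁻¹ᵁ i₁ ⁻¹ᵁ V ≤ k₁ ⁻¹ᵁ σ₁ ⁻¹ᵁ V := by
    change (σ₀₁ ≫ i₁) ⁻¹ᵁ V ≤ (k₁ ≫ σ₁) ⁻¹ᵁ V
    rw [q₁.pb.w]
  let m1 := kM (b := b₁) (i := i₁) (σ := σ₁) a₁ U
  let n1 := fnMod a₁ V
  let n2 := fnMod (i₁ ≫ a₁) (i₁ ⁻¹ᵁ V)
  let n3 := fnMod (σ₁ ≫ a₁) (σ₁ ⁻¹ᵁ V)
  let n4 := fnMod (σ₀₁ ≫ i₁ ≫ a₁) (σ₀₁ ⁻¹ᵁ i₁ ⁻¹ᵁ V)
  have f1 : Module.Flat B Γ(Z₁, V) := flat_fn a₁ hU
  have f2 : Module.Flat B Γ(Z₀₁, i₁ ⁻¹ᵁ V) := flat_fn (i₁ ≫ a₁) (hU.preimage i₁)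
  have f3 : Module.Flat B Γ(Y₁, σ₁ ⁻¹ᵁ V) := flat_fn (σ₁ ≫ a₁) (hU.preimage σ₁)
  have f4 : Module.Flat B Γ(Y₀₁, σ₀₁ ⁻¹ᵁ i₁ ⁻¹ᵁ V) :=
    flat_fn (σ₀₁ ≫ i₁ ≫ a₁) ((hU.preimage i₁).preimage σ₀₁)
  let f₀ : Γ(Z₁, V) →ₗ[B] Γ(Z₀₁, i₁ ⁻¹ᵁ V) := fnL i₁ a₁ rfl le_rfl
  let fY : Γ(Z₁, V) →ₗ[B] Γ(Y₁, σ₁ ⁻¹ᵁ V) := fnL σ₁ a₁ rfl le_rfl
  let g₀ : Γ(Z₀₁, i₁ ⁻¹ᵁ V) →ₗ[B] Γ(Y₀₁, σ₀₁ ⁻¹ᵁ i₁ ⁻¹ᵁ V) := fnL σ₀₁ (i₁ ≫ a₁) rfl le_rfl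
  let gY : Γ(Y₁, σ₁ ⁻¹ᵁ V) →ₗ[B] Γ(Y₀₁, σ₀₁ ⁻¹ᵁ i₁ ⁻¹ᵁ V) :=
    fnL k₁ (σ₁ ≫ a₁) (by rw [← Category.assoc, q₁.pb.w, Category.assoc]) hle
  let j : (KP b₁ i₁ σ₁).obj (op U) →ₗ[B] Γ(Z₁, V) :=
    { toFun := kval, map_add' := kval_add, map_smul' := fun r x => kval_smul a₁ r x }
  refine flat_of_ker f₀ fY g₀ gY ?_ ?_ ?_ ?_ ?_ j kval_injective ?_
  · intro x
    obtain ⟨y, hy⟩ := i₁.app_surjective V hU x
    exact ⟨y, (ores_refl _).trans hy⟩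
  · intro x
    obtain ⟨y, hy⟩ := σ₁.app_surjective V hU x
    exact ⟨y, (ores_refl _).trans hy⟩
  · intro x
    obtain ⟨y, hy⟩ := σ₀₁.app_surjective _ (hU.preimage i₁) x
    exact ⟨y, (ores_refl _).trans hy⟩
  · intro x
    change fn σ₀₁ le_rfl (fn i₁ le_rfl x) = fn k₁ hle (fn σ₁ le_rfl x)
    rw [fn_comp, fn_comp]
    exact fn_congr q₁.pb.w.symm _ _
  · intro x hx
    obtain ⟨n, j, h1, h2, h3⟩ := q₁.exists_decomp hU x (by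
      have : fn σ₀₁ (le_refl (σ₀₁ ⁻¹ᵁ i₁ ⁻¹ᵁ V)) (fn i₁ (le_refl (i₁ ⁻¹ᵁ V)) x) = 0 := hx
      rw [fn_apply, fn_apply, ores_refl, ores_refl] at this
      exact this)
    refine ⟨n, j, h1, ?_, ?_⟩
    · change fn i₁ (le_refl (i₁ ⁻¹ᵁ V)) n = 0
      rw [fn_apply, h2, map_zero]
    · change fn σ₁ (le_refl (σ₁ ⁻¹ᵁ V)) j = 0
      rw [fn_apply, h3, map_zero]
  · intro x
    constructor
    · rintro ⟨y, rfl⟩
      constructor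
      · change fn i₁ (le_refl (i₁ ⁻¹ᵁ V)) (kval y) = 0
        rw [fn_apply, app_kval₀, map_zero]
      · change fn σ₁ (le_refl (σ₁ ⁻¹ᵁ V)) (kval y) = 0
        rw [fn_apply, app_kval, map_zero]
    · rintro ⟨h1, h2⟩
      have h1' : ores (le_refl (i₁ ⁻¹ᵁ V)) (i₁.app V x) = 0 := h1
      have h2' : ores (le_refl (σ₁ ⁻¹ᵁ V)) (σ₁.app V x) = 0 := h2
      rw [ores_refl] at h1' h2'
      exact ⟨kmk x h1' h2', rfl⟩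

variable {ι : Type} [LinearOrder ι] [Fintype ι] (U : ι → W.Opens)
    (hU : ∀ s : Finset ι, s.Nonempty → IsAffineOpen (b₁ ⁻¹ᵁ (s.inf U)))

include q₁ hU in
/-- The cochains of `KP` are flat. -/
theorem flat_KC [Flat a₁] [Flat (i₁ ≫ a₁)] [Flat (σ₁ ≫ a₁)] [Flat (σ₀₁ ≫ i₁ ≫ a₁)] (n : ℕ) :
    Module.Flat B (KC a₁ b₁ i₁ σ₁ U n) := by
  let m1 : ∀ c : (cech U).B n, Module B ((KP b₁ i₁ σ₁).obj (op ((cech U).W n c))) := fun _ => kM a₁ _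
  have h1 : ∀ c : (cech U).B n, Module.Flat B ((KP b₁ i₁ σ₁).obj (op ((cech U).W n c))) :=
    fun c => flat_kM q₁ (hU c.1 c.2.1)
  have : Module.Flat B (Π₀ c : (cech U).B n, (KP b₁ i₁ σ₁).obj (op ((cech U).W n c))) := inferInstance
  have h2 : Module.Flat B (∀ c : (cech U).B n, (KP b₁ i₁ σ₁).obj (op ((cech U).W n c))) :=
    Module.Flat.of_linearEquiv (DFinsupp.linearEquivFunOnFintype
    (M := fun c : (cech U).B n => (KP b₁ i₁ σ₁).obj (op ((cech U).W n c))) (R := B)).symm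
  exact h2

/-- The cochains of large degree vanish. -/
theorem subsingleton_KC (p : ℕ) (hp : Fintype.card ι ≤ p) : Subsingleton (KC a₁ b₁ i₁ σ₁ U p) := by
  have : IsEmpty ((cech U).B p) := ⟨fun c => by
    have h1 : c.1.card = p + 1 := c.2.2
    have h2 := Finset.card_le_univ c.1
    omega⟩
  exact inferInstanceAs (Subsingleton (∀ c : (cech U).B p, (KP b₁ i₁ σ₁).obj (op ((cech U).W p c))))

include q₁ hU in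
/-- Everything needed for the representability of the lifts. -/
theorem pure_all [Flat a₁] [Flat (i₁ ≫ a₁)] [Flat (σ₁ ≫ a₁)] [Flat (σ₀₁ ≫ i₁ ≫ a₁)]
    (hH : ∀ p, Module.Flat B (LinearMap.ker (dK a₁ b₁ i₁ σ₁ U p) ⧸ bz (fun n => dK a₁ b₁ i₁ σ₁ U n) p)) :
    (∀ p, Pure (LinearMap.ker (dK a₁ b₁ i₁ σ₁ U p))) ∧ ∀ p, Pure (bdry (fun n => dK a₁ b₁ i₁ σ₁ U n) p) :=
  ⟨fun p => pure_ker (dK_comp a₁ b₁ i₁ σ₁ U) (flat_KC q₁ U hU) hH _ (subsingleton_KC (a₁ := a₁) U) p,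
    fun p => pure_bdry (dK_comp a₁ b₁ i₁ σ₁ U) (flat_KC q₁ U hU) hH _ (subsingleton_KC (a₁ := a₁) U) p⟩

end Sections

end Groth.Agent.Pic13.H958.KCFlat
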