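import Groth.Agent.Ega3B.KunnethAlg
import Mathlib.Algebra.MvPolynomial.Basic
import Mathlib.LinearAlgebra.TensorProduct.Basis
import Mathlib.LinearAlgebra.FreeModule.Basic
import Mathlib.LinearAlgebra.FreeModule.Finite.Basic

/-!
# Corepresentability of the solutions of `d k = - z` modulo coboundaries

`C` a bounded complex of flat `B`-modules with flat cohomology, `H^1` finite free and `H^2` free, `z` a `2`-cocycle:
the functor `B' ↦ {k ∈ C^1 ⊗ B' | d k = - z}/d(C^0 ⊗ B')` on `B`-algebras is corepresentable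
(`exists_rep`).
-/

set_option autoImplicit false
universe u

open TensorProduct

namespace Groth.Agent.Pic13.H958.SolRep

open Groth.Agent.Ega3B.KunnethAlg

variable {B : Type u} [CommRing B] {C : ℕ → Type u} [∀ p, AddCommGroup (C p)] [∀ p, Module B (C p)]
  {d : ∀ p, C p →ₗ[B] C (p + 1)}

section General

variable (hd : ∀ p, d (p + 1) ∘ₗ d p = 0) (hk : ∀ p, Pure (LinearMap.ker (d p)))
  (hb : ∀ p, Pure (bdry d p))

/-- The map from coboundaries to tensors. -/
theorem exists_of_bz (p : ℕ) (M : Type u) [AddCommGroup M] [Module B M]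
    (y : bz d (p + 1) ⊗[B] M) : ∃ x : C p ⊗[B] M,
      (LinearMap.ker (d (p + 1))).subtype.rTensor M ((bz d (p + 1)).subtype.rTensor M y) =
        (d p).rTensor M x := by
  induction y using TensorProduct.induction_on with
  | zero => exact ⟨0, by simp only [map_zero]⟩
  | tmul y m =>
    obtain ⟨c, hc⟩ := (show y.1.1 ∈ LinearMap.range (d p) from y.2)
    exact ⟨c ⊗ₜ m, by simp only [LinearMap.rTensor_tmul, Submodule.subtype_apply, hc]⟩
  | add y y' hy hy' =>
    obtain ⟨x, hx⟩ := hy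
    obtain ⟨x', hx'⟩ := hy'
    exact ⟨x + x', by simp only [map_add, hx, hx']⟩

include hd hk in
/-- A tensor of cocycles which is a coboundary dies in the tensor product of the cohomology. -/
theorem mkQ_eq_zero (p : ℕ) {M : Type u} [AddCommGroup M] [Module B M]
    (y : LinearMap.ker (d (p + 1)) ⊗[B] M) (x : C p ⊗[B] M)
    (h : (LinearMap.ker (d (p + 1))).subtype.rTensor M y = (d p).rTensor M x) :
    (bz d (p + 1)).mkQ.rTensor M y = 0 := by
  -- the map `C p ⟶ bz`
  let e : C p →ₗ[B] bz d (p + 1) := LinearMap.codRestrict _ (LinearMap.codRestrict _ (d p)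
    (fun c => by
      rw [LinearMap.mem_ker]
      exact LinearMap.congr_fun (hd p) c)) (fun c => ⟨c, rfl⟩)
  have h1 : y = (bz d (p + 1)).subtype.rTensor M (e.rTensor M x) := by
    apply hk (p + 1) M
    rw [h, ← LinearMap.comp_apply, ← LinearMap.comp_apply, ← LinearMap.rTensor_comp,
      ← LinearMap.rTensor_comp]
    rfl
  rw [h1, ← LinearMap.comp_apply, ← LinearMap.rTensor_comp,
    (LinearMap.exact_subtype_mkQ (bz d (p + 1))).linearMap_comp_eq_zero, LinearMap.rTensor_zero,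
    LinearMap.zero_apply]

/-- Conversely. -/
theorem exists_of_mkQ_eq_zero (p : ℕ) {M : Type u} [AddCommGroup M] [Module B M]
    (y : LinearMap.ker (d (p + 1)) ⊗[B] M) (h : (bz d (p + 1)).mkQ.rTensor M y = 0) :
    ∃ x : C p ⊗[B] M, (LinearMap.ker (d (p + 1))).subtype.rTensor M y = (d p).rTensor M x := by
  obtain ⟨w, rfl⟩ := (rTensor_exact M (LinearMap.exact_subtype_mkQ (bz d (p + 1)))
    (bz d (p + 1)).mkQ_surjective y).1 h
  exact exists_of_bz p M w

end General

section Main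

variable (hd : ∀ p, d (p + 1) ∘ₗ d p = 0) (hk : ∀ p, Pure (LinearMap.ker (d p)))
  (hb : ∀ p, Pure (bdry d p))
  {r : Type u} [Fintype r] (β : Module.Basis r B (LinearMap.ker (d 1) ⧸ bz d 1))
  (t : r → LinearMap.ker (d 1)) (ht : ∀ l, (bz d 1).mkQ (t l) = β l)
  {J : Type u} (γ : Module.Basis J B (LinearMap.ker (d 2) ⧸ bz d 2))

variable {B' : Type u} [CommRing B'] [Algebra B B']

/-- The tensor of cocycles with given coefficients. -/
noncomputable def comb (b : r → B') : LinearMap.ker (d 1) ⊗[B] B' := ∑ l, t l ⊗ₜ b l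

/-- The same in `C 1 ⊗ B'`. -/
noncomputable def combC (b : r → B') : C 1 ⊗[B] B' := ∑ l, (t l : C 1) ⊗ₜ b l

omit [Fintype r] in
theorem subtype_comb [Fintype r] (b : r → B') :
    (LinearMap.ker (d 1)).subtype.rTensor B' (comb t b) = combC t b := by
  unfold comb combC
  rw [map_sum]
  rfl

theorem d_combC (b : r → B') : (d 1).rTensor B' (combC t b) = 0 := by
  unfold combC
  rw [map_sum]
  refine Finset.sum_eq_zero fun l _ => ?_
  rw [LinearMap.rTensor_tmul, (t l).2, TensorProduct.zero_tmul]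

theorem combC_sub (b b' : r → B') : combC t (b - b') = combC t b - combC t b' := by
  unfold combC
  rw [← Finset.sum_sub_distrib]
  refine Finset.sum_congr rfl fun l _ => ?_
  rw [Pi.sub_apply, TensorProduct.tmul_sub]

include ht in
theorem mkQ_comb (b : r → B') : (bz d 1).mkQ.rTensor B' (comb t b) = ∑ l, β l ⊗ₜ b l := by
  unfold comb
  rw [map_sum]
  refine Finset.sum_congr rfl fun l _ => ?_
  rw [LinearMap.rTensor_tmul, ht]

/-- Coefficients in a basis of the first factor. -/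
theorem exists_coeff (y : (LinearMap.ker (d 1) ⧸ bz d 1) ⊗[B] B') : ∃ b : r → B', y = ∑ l, β l ⊗ₜ b l := by
  induction y using TensorProduct.induction_on with
  | zero => exact ⟨0, by simp⟩
  | tmul y m =>
    refine ⟨fun l => β.repr y l • m, ?_⟩
    conv_lhs => rw [← β.sum_repr y]
    rw [TensorProduct.sum_tmul]
    refine Finset.sum_congr rfl fun l _ => ?_
    rw [TensorProduct.smul_tmul]
  | add y y' hy hy' =>
    obtain ⟨b, rfl⟩ := hy
    obtain ⟨b', rfl⟩ := hy'
    refine ⟨b + b', ?_⟩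
    rw [← Finset.sum_add_distrib]
    refine Finset.sum_congr rfl fun l _ => ?_
    rw [Pi.add_apply, TensorProduct.tmul_add]

/-- Uniqueness of coefficients. -/
theorem coeff_unique {J : Type*} [Fintype J] {M : Type*} [AddCommGroup M] [Module B M] (β : Module.Basis J B M)
    (b : J → B') (h : ∑ l, β l ⊗ₜ[B] b l = 0) : b = 0 := by
  funext l
  have h1 := congrArg (TensorProduct.lid B B' ∘ (β.coord l).rTensor B') h
  simp only [Function.comp_apply, map_sum, map_zero, LinearMap.rTensor_tmul, TensorProduct.lid_tmul,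
    Module.Basis.coord_apply, Module.Basis.repr_self] at h1
  rw [Finset.sum_eq_single l] at h1
  · rw [Finsupp.single_eq_same, one_smul] at h1
    exact h1
  · intro l' _ hl
    rw [Finsupp.single_eq_of_ne (Ne.symm hl), zero_smul]
  · intro h2
    exact absurd (Finset.mem_univ _) h2

include hb ht in
/-- Cocycles with coefficients in `B'`. -/
theorem exists_comb (k : C 1 ⊗[B] B') (hk' : (d 1).rTensor B' k = 0) :
    ∃ (b : r → B') (x : C 0 ⊗[B] B'), k = combC t b + (d 0).rTensor B' x := by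
  have hp : Pure (LinearMap.range (d 1)) := hb 2
  obtain ⟨y, hy⟩ := ker_rTensor (d 1) hp k hk'
  obtain ⟨b, hb'⟩ := exists_coeff β ((bz d 1).mkQ.rTensor B' y)
  have h1 : (bz d 1).mkQ.rTensor B' (y - comb t b) = 0 := by
    rw [map_sub, hb', mkQ_comb β t ht, sub_self]
  obtain ⟨x, hx⟩ := exists_of_mkQ_eq_zero 0 (y - comb t b) h1
  refine ⟨b, x, ?_⟩
  rw [map_sub, hy, subtype_comb] at hx
  rw [← hx]
  abel

include hk hd ht in
/-- Uniqueness of the coefficients. -/
theorem comb_unique (b b' : r → B') (x : C 0 ⊗[B] B') (h : combC t b = combC t b' + (d 0).rTensor B' x) :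
    b = b' := by
  have h1 := mkQ_eq_zero hd hk 0 (comb t (b - b')) x (by
    rw [subtype_comb, combC_sub, h]
    abel)
  rw [mkQ_comb β t ht] at h1
  exact sub_eq_zero.1 (coeff_unique β _ h1)

/-- The ideal of the coordinates of the obstruction. -/
noncomputable def obs (z : LinearMap.ker (d 2)) : Ideal B :=
  Ideal.span (Set.range fun j => γ.repr ((bz d 2).mkQ z) j)

include hk hd in
theorem map_obs_of_eq (z : LinearMap.ker (d 2)) (k : C 1 ⊗[B] B')
    (h : (d 1).rTensor B' k = -((z : C 2) ⊗ₜ (1 : B'))) : obs γ z ≤ RingHom.ker (algebraMap B B') := by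
  have h1 := mkQ_eq_zero hd hk 1 (z ⊗ₜ[B] (1 : B')) (-k) (by
    rw [map_neg, h, neg_neg]
    rfl)
  rw [LinearMap.rTensor_tmul] at h1
  rw [obs, Ideal.span_le]
  rintro _ ⟨j, rfl⟩
  have h2 := congrArg (TensorProduct.lid B B' ∘ (γ.coord j).rTensor B') h1
  simp only [Function.comp_apply, map_zero, LinearMap.rTensor_tmul, TensorProduct.lid_tmul,
    Module.Basis.coord_apply] at h2
  change algebraMap B B' _ = 0
  rw [Algebra.algebraMap_eq_smul_one]
  exact h2

theorem exists_of_obs (z : LinearMap.ker (d 2)) (h : obs γ z ≤ RingHom.ker (algebraMap B B')) :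
    ∃ k : C 1 ⊗[B] B', (d 1).rTensor B' k = -((z : C 2) ⊗ₜ (1 : B')) := by
  have h1 : (bz d 2).mkQ.rTensor B' (z ⊗ₜ[B] (1 : B')) = 0 := by
    rw [LinearMap.rTensor_tmul]
    conv_lhs => rw [← γ.linearCombination_repr ((bz d 2).mkQ z)]
    rw [Finsupp.linearCombination_apply, Finsupp.sum, TensorProduct.sum_tmul]
    refine Finset.sum_eq_zero fun j _ => ?_
    rw [TensorProduct.smul_tmul, ← Algebra.algebraMap_eq_smul_one]
    have h2 : algebraMap B B' (γ.repr ((bz d 2).mkQ z) j) = 0 :=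
      h (Ideal.subset_span ⟨j, rfl⟩)
    rw [h2, TensorProduct.tmul_zero]
  obtain ⟨x, hx⟩ := exists_of_mkQ_eq_zero 1 (z ⊗ₜ[B] (1 : B')) h1
  refine ⟨-x, ?_⟩
  rw [map_neg, ← hx]
  rfl

end Main

section Rep

variable (hd : ∀ p, d (p + 1) ∘ₗ d p = 0) (hk : ∀ p, Pure (LinearMap.ker (d p)))
  (hb : ∀ p, Pure (bdry d p))
  (h1 : Module.Free B (LinearMap.ker (d 1) ⧸ bz d 1)) (h1' : Module.Finite B (LinearMap.ker (d 1) ⧸ bz d 1))
  (h2 : Module.Free B (LinearMap.ker (d 2) ⧸ bz d 2))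

include hd hk hb h1 h1' h2 in
/-- **Corepresentability of the solutions modulo coboundaries**. -/
theorem exists_rep (z : LinearMap.ker (d 2)) :
    ∃ (A : Type u) (_ : CommRing A) (_ : Algebra B A) (κ : C 1 ⊗[B] A),
      (d 1).rTensor A κ = -((z : C 2) ⊗ₜ (1 : A)) ∧
      ∀ (B' : Type u) [CommRing B'] [Algebra B B'] (k : C 1 ⊗[B] B'),
        (d 1).rTensor B' k = -((z : C 2) ⊗ₜ (1 : B')) →
        ∃! φ : A →ₐ[B] B', ∃ x : C 0 ⊗[B] B',
          (φ.toLinearMap.lTensor (C 1)) κ = k - (d 0).rTensor B' x := by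
  let β := Module.Free.chooseBasis B (LinearMap.ker (d 1) ⧸ bz d 1)
  let γ := Module.Free.chooseBasis B (LinearMap.ker (d 2) ⧸ bz d 2)
  choose t ht using fun l => (bz d 1).mkQ_surjective (β l)
  let 𝔞 : Ideal B := obs γ z
  obtain ⟨κ₁, hκ₁⟩ := exists_of_obs (B' := B ⧸ 𝔞) γ z (by
    change 𝔞 ≤ RingHom.ker (Ideal.Quotient.mk 𝔞)
    rw [Ideal.mk_ker])
  let r := Module.Free.ChooseBasisIndex B (LinearMap.ker (d 1) ⧸ bz d 1)
  let A := MvPolynomial r (B ⧸ 𝔞)
  let c : (B ⧸ 𝔞) →ₐ[B] A := IsScalarTower.toAlgHom B (B ⧸ 𝔞) A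
  let X : r → A := fun l => MvPolynomial.X l
  -- change of rings and differentials
  have hcomm : ∀ (B₁ B₂ : Type u) [CommRing B₁] [Algebra B B₁] [CommRing B₂] [Algebra B B₂]
      (ψ : B₁ →ₐ[B] B₂) (y : C 1 ⊗[B] B₁), (d 1).rTensor B₂ (ψ.toLinearMap.lTensor (C 1) y) =
        ψ.toLinearMap.lTensor (C 2) ((d 1).rTensor B₁ y) := by
    intro B₁ B₂ _ _ _ _ ψ y
    rw [← LinearMap.comp_apply, ← LinearMap.comp_apply, LinearMap.rTensor_comp_lTensor,
      LinearMap.lTensor_comp_rTensor]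
  have hz : ∀ (B₁ B₂ : Type u) [CommRing B₁] [Algebra B B₁] [CommRing B₂] [Algebra B B₂]
      (ψ : B₁ →ₐ[B] B₂), ψ.toLinearMap.lTensor (C 2) (-((z : C 2) ⊗ₜ[B] (1 : B₁))) =
        -((z : C 2) ⊗ₜ[B] (1 : B₂)) := by
    intro B₁ B₂ _ _ _ _ ψ
    rw [map_neg, LinearMap.lTensor_tmul, AlgHom.toLinearMap_apply, map_one]
  have hcombC : ∀ (B₁ B₂ : Type u) [CommRing B₁] [Algebra B B₁] [CommRing B₂] [Algebra B B₂]
      (ψ : B₁ →ₐ[B] B₂) (b : r → B₁), ψ.toLinearMap.lTensor (C 1) (combC t b) = combC t (fun l => ψ (b l)) := by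
    intro B₁ B₂ _ _ _ _ ψ b
    unfold combC
    rw [map_sum]
    rfl
  have hlcomp : ∀ (B₁ B₂ B₃ : Type u) [CommRing B₁] [Algebra B B₁] [CommRing B₂] [Algebra B B₂]
      [CommRing B₃] [Algebra B B₃] (ψ : B₁ →ₐ[B] B₂) (ψ' : B₂ →ₐ[B] B₃) (y : C 1 ⊗[B] B₁),
      ψ'.toLinearMap.lTensor (C 1) (ψ.toLinearMap.lTensor (C 1) y) =
        (ψ'.comp ψ).toLinearMap.lTensor (C 1) y := by
    intro B₁ B₂ B₃ _ _ _ _ _ _ ψ ψ' y
    rw [← LinearMap.comp_apply, ← LinearMap.lTensor_comp]
    rfl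
  refine ⟨A, inferInstance, inferInstance, c.toLinearMap.lTensor (C 1) κ₁ + combC t X, ?_, ?_⟩
  · rw [map_add, d_combC, add_zero, hcomm, hκ₁, hz]
  · intro B' _ _ k hk'
    have hobs := map_obs_of_eq hd hk γ z k hk'
    let φ₁ : (B ⧸ 𝔞) →ₐ[B] B' := Ideal.Quotient.liftₐ 𝔞 (Algebra.ofId B B') (fun a ha => hobs ha)
    have hφ₁ : ∀ ψ : (B ⧸ 𝔞) →ₐ[B] B', ψ = φ₁ := by
      intro ψ
      apply Ideal.Quotient.algHom_ext
      ext
    -- the value of any homomorphism on `κ`
    have hval : ∀ ψ : A →ₐ[B] B', ψ.toLinearMap.lTensor (C 1)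
        (c.toLinearMap.lTensor (C 1) κ₁ + combC t X) =
          φ₁.toLinearMap.lTensor (C 1) κ₁ + combC t (fun l => ψ (X l)) := by
      intro ψ
      rw [map_add, hcombC, hlcomp, hφ₁ (ψ.comp c)]
    obtain ⟨b, x, hx⟩ := exists_comb hb β t ht (k - φ₁.toLinearMap.lTensor (C 1) κ₁) (by
      rw [map_sub, hk', hcomm, hκ₁, hz, sub_self])
    let φ : A →ₐ[B] B' :=
      { MvPolynomial.eval₂Hom (φ₁ : (B ⧸ 𝔞) →+* B') b with
        commutes' := fun a => by
          change MvPolynomial.eval₂Hom (φ₁ : (B ⧸ 𝔞) →+* B') b (algebraMap B A a) = algebraMap B B' a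
          have e1 : algebraMap B A a = MvPolynomial.C (algebraMap B (B ⧸ 𝔞) a) := rfl
          rw [e1, MvPolynomial.eval₂Hom_C]
          exact φ₁.commutes a }
    have hφX : ∀ l, φ (X l) = b l := fun l => MvPolynomial.eval₂Hom_X' _ _ _
    refine ⟨φ, ⟨x, ?_⟩, ?_⟩
    · change (φ.toLinearMap.lTensor (C 1)) _ = _
      rw [hval φ]
      have e2 : (fun l => φ (X l)) = b := funext hφX
      rw [e2]
      have e3 : combC t b = k - φ₁.toLinearMap.lTensor (C 1) κ₁ - (d 0).rTensor B' x := by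
        rw [hx]; abel
      rw [e3]; abel
    · rintro ψ ⟨x', hx'⟩
      change (ψ.toLinearMap.lTensor (C 1)) _ = _ at hx'
      rw [hval ψ] at hx'
      have h5 := comb_unique hd hk β t ht (fun l => ψ (X l)) b (x - x') (by
        rw [map_sub]
        have : combC t b = k - φ₁.toLinearMap.lTensor (C 1) κ₁ - (d 0).rTensor B' x := by
          rw [hx]; abel
        rw [this]
        have h6 : combC t (fun l => ψ (X l)) = k - (d 0).rTensor B' x' -
            φ₁.toLinearMap.lTensor (C 1) κ₁ := by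
          rw [← hx']; abel
        rw [h6]
        abel)
      have h7 : (ψ : A →+* B') = (φ : A →+* B') := by
        apply MvPolynomial.ringHom_ext
        · intro a
          have h8 := congrArg (fun f : (B ⧸ 𝔞) →ₐ[B] B' => f a) ((hφ₁ (ψ.comp c)).trans (hφ₁ (φ.comp c)).symm)
          exact h8
        · intro l
          have h9 := congrFun h5 l
          exact h9.trans (hφX l).symm
      exact AlgHom.coe_ringHom_injective h7

end Rep

end Groth.Agent.Pic13.H958.SolRep
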