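import Groth.Agent.Pic13.H958.KCFlat
import Groth.Agent.Pic13.H958.SolRep
import Groth.Agent.Pic13.H958.Lifts

/-!
# Cochains after base change: equations and naturality
-/

set_option autoImplicit false
set_option linter.unusedSectionVars false
universe u

open CategoryTheory CategoryTheory.Limits AlgebraicGeometry TopologicalSpace Opposite TensorProduct

namespace Groth.Agent.Pic13.H958.CoreAlg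

open Groth.Agent Groth.Agent.VarietyB.BCAlg Groth.Agent.Ega3B.KunnethAlg Groth.Agent.Ega3B.KunnethSec
open Groth.Agent.Fdesc Groth.Agent.Fdesc.LocGen Groth.Agent.Picfga Groth.Agent.Picfga.LineFam
open Groth.Agent.Pic13.H958.RelUnits Groth.Agent.Pic13.H958.AffLift Groth.Agent.Pic13.H958.Ord
open Groth.Agent.Pic13.H958.Kil Groth.Agent.Pic13.H958.KilBC Groth.Agent.Pic13.H958.KMod
  Groth.Agent.Pic13.H958.KCBC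
open Groth.Agent.Ega3B Cube CubeData CombRes CoefSys

section One

variable {B B' : Type u} [CommRing B] [CommRing B'] [Algebra B B']
  {W Z₁ Z₀₁ Y₁ Y₀₁ Z₂ Z₀₂ Y₂ Y₀₂ : Scheme.{u}} {i₁ : Z₀₁ ⟶ Z₁} {σ₁ : Y₁ ⟶ Z₁} {σ₀₁ : Y₀₁ ⟶ Z₀₁}
  {i₂ : Z₀₂ ⟶ Z₂} {σ₂ : Y₂ ⟶ Z₂} {σ₀₂ : Y₀₂ ⟶ Z₀₂}
  {b₁ : Z₁ ⟶ W} {b₂ : Z₂ ⟶ W}
  (p : PairHom b₁ σ₁ b₂ σ₂) (p₀ : PairHom (i₁ ≫ b₁) σ₀₁ (i₂ ≫ b₂) σ₀₂) (hp : p₀.h ≫ i₁ = i₂ ≫ p.h)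
  {a₁ : Z₁ ⟶ Spec (CommRingCat.of B)} {a₂ : Z₂ ⟶ Spec (CommRingCat.of B')}
  (hw : p.h ≫ a₁ = a₂ ≫ sp B B')
  {ι : Type} [LinearOrder ι] [Fintype ι] (U : ι → W.Opens)
  (hbc : ∀ n, Function.Bijective (cb (KS (a₁ := a₁) (a₂ := a₂) p p₀ hp hw U n)))

/-- The comparison map on cochains. -/
noncomputable def cbK (n : ℕ) : KC a₁ b₁ i₁ σ₁ U n ⊗[B] B' →+ (cech U).K n (KP b₂ i₂ σ₂) :=
  (cb (KS (a₁ := a₁) (a₂ := a₂) p p₀ hp hw U n) : KC a₁ b₁ i₁ σ₁ U n ⊗[B] B' →+ KC a₂ b₂ i₂ σ₂ U n)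

theorem kval_cbK_tmul (n : ℕ) (c : KC a₁ b₁ i₁ σ₁ U n) (r : B') (s : (cech U).B n) :
    kval ((cbK p p₀ hp hw U n (c ⊗ₜ r) : (cech U).K n (KP b₂ i₂ σ₂)) s) =
      toSec B' a₂ (b₂ ⁻¹ᵁ ((cech U).W n s)) r *
        fn p.h (le_of_comp p.w ((cech U).W n s)) (kval ((show (cech U).K n (KP b₁ i₁ σ₁) from c) s)) :=
  congrArg (fun y : (cech U).K n (KP b₂ i₂ σ₂) => kval (y s))
    (cb_tmul (KS (a₁ := a₁) (a₂ := a₂) p p₀ hp hw U n) c r)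

theorem cbK_tmul_one (n : ℕ) (z : (cech U).K n (KP b₁ i₁ σ₁)) :
    cbK p p₀ hp hw U n ((show KC a₁ b₁ i₁ σ₁ U n from z) ⊗ₜ (1 : B')) =
      (cech U).Kmap n (kP p p₀ hp) z := by
  funext s
  apply kval_injective
  rw [kval_cbK_tmul, map_one, one_mul]
  rfl

theorem δ_cbK (n : ℕ) (x : KC a₁ b₁ i₁ σ₁ U n ⊗[B] B') :
    (cech U).δ n _ (cbK p p₀ hp hw U n x) =
      cbK p p₀ hp hw U (n + 1) ((dK a₁ b₁ i₁ σ₁ U n).rTensor B' x) := by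
  exact cb_comm (KS (a₁ := a₁) (a₂ := a₂) p p₀ hp hw U n) (KS p p₀ hp hw U (n + 1))
    (dK a₁ b₁ i₁ σ₁ U n) (dK a₂ b₂ i₂ σ₂ U n).toAddMonoidHom (fun b x => (dK a₂ b₂ i₂ σ₂ U n).map_smul b x)
    (fun m => d_KS p p₀ hp hw U n m) x

variable (z : (cech U).K 2 (KP b₁ i₁ σ₁))

theorem δ_of_eq (κ : KC a₁ b₁ i₁ σ₁ U 1 ⊗[B] B')
    (h : (dK a₁ b₁ i₁ σ₁ U 1).rTensor B' κ = -((show KC a₁ b₁ i₁ σ₁ U 2 from z) ⊗ₜ (1 : B'))) :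
    (cech U).δ 1 _ (cbK p p₀ hp hw U 1 κ) = - (cech U).Kmap 2 (kP p p₀ hp) z := by
  rw [δ_cbK, h, map_neg, cbK_tmul_one]

include hbc in
theorem exists_of_δ (k : (cech U).K 1 (KP b₂ i₂ σ₂)) (h : (cech U).δ 1 _ k = - (cech U).Kmap 2 (kP p p₀ hp) z) :
    ∃ κ : KC a₁ b₁ i₁ σ₁ U 1 ⊗[B] B', cbK p p₀ hp hw U 1 κ = k ∧
      (dK a₁ b₁ i₁ σ₁ U 1).rTensor B' κ = -((show KC a₁ b₁ i₁ σ₁ U 2 from z) ⊗ₜ (1 : B')) := by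
  obtain ⟨κ, hκ⟩ := (hbc 1).2 k
  refine ⟨κ, hκ, (hbc 2).1 ?_⟩
  change cbK p p₀ hp hw U 2 _ = cbK p p₀ hp hw U 2 _
  rw [← δ_cbK, map_neg, cbK_tmul_one]
  have hκ' : cbK p p₀ hp hw U 1 κ = k := hκ
  rw [hκ', h]

include hbc in
theorem exists_iff (κ κ' : KC a₁ b₁ i₁ σ₁ U 1 ⊗[B] B') :
    (∃ x : (cech U).K 0 (KP b₂ i₂ σ₂), cbK p p₀ hp hw U 1 κ = cbK p p₀ hp hw U 1 κ' - (cech U).δ 0 _ x) ↔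
      ∃ x : KC a₁ b₁ i₁ σ₁ U 0 ⊗[B] B', κ = κ' - (dK a₁ b₁ i₁ σ₁ U 0).rTensor B' x := by
  constructor
  · rintro ⟨x, hx⟩
    obtain ⟨x, rfl⟩ := (hbc 0).2 x
    refine ⟨x, (hbc 1).1 ?_⟩
    change cbK p p₀ hp hw U 1 _ = cbK p p₀ hp hw U 1 _
    rw [hx, map_sub, ← δ_cbK]
    rfl
  · rintro ⟨x, rfl⟩
    exact ⟨cbK p p₀ hp hw U 0 x, by rw [map_sub, ← δ_cbK]⟩

end One

section Two

variable {B A B' : Type u} [CommRing B] [CommRing A] [Algebra B A] [CommRing B'] [Algebra B B']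
  {W Z₁ Z₀₁ Y₁ Y₀₁ Z₂ Z₀₂ Y₂ Y₀₂ Z₃ Z₀₃ Y₃ Y₀₃ : Scheme.{u}} {i₁ : Z₀₁ ⟶ Z₁} {σ₁ : Y₁ ⟶ Z₁}
  {σ₀₁ : Y₀₁ ⟶ Z₀₁}
  {i₂ : Z₀₂ ⟶ Z₂} {σ₂ : Y₂ ⟶ Z₂} {σ₀₂ : Y₀₂ ⟶ Z₀₂}
  {i₃ : Z₀₃ ⟶ Z₃} {σ₃ : Y₃ ⟶ Z₃} {σ₀₃ : Y₀₃ ⟶ Z₀₃}
  {b₁ : Z₁ ⟶ W} {b₂ : Z₂ ⟶ W} {b₃ : Z₃ ⟶ W}
  (p : PairHom b₁ σ₁ b₂ σ₂) (p₀ : PairHom (i₁ ≫ b₁) σ₀₁ (i₂ ≫ b₂) σ₀₂) (hp : p₀.h ≫ i₁ = i₂ ≫ p.h)
  (p' : PairHom b₂ σ₂ b₃ σ₃) (p₀' : PairHom (i₂ ≫ b₂) σ₀₂ (i₃ ≫ b₃) σ₀₃) (hp' : p₀'.h ≫ i₂ = i₃ ≫ p'.h)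
  (p'' : PairHom b₁ σ₁ b₃ σ₃) (p₀'' : PairHom (i₁ ≫ b₁) σ₀₁ (i₃ ≫ b₃) σ₀₃) (hp'' : p₀''.h ≫ i₁ = i₃ ≫ p''.h)
  (hpp : p'.h ≫ p.h = p''.h)
  {a₁ : Z₁ ⟶ Spec (CommRingCat.of B)} {a₂ : Z₂ ⟶ Spec (CommRingCat.of A)} {a₃ : Z₃ ⟶ Spec (CommRingCat.of B')}
  (hw : p.h ≫ a₁ = a₂ ≫ sp B A) (hw'' : p''.h ≫ a₁ = a₃ ≫ sp B B') (ψ : A →ₐ[B] B')
  (hw' : p'.h ≫ a₂ = a₃ ≫ Spec.map (CommRingCat.ofHom ψ.toRingHom))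
  {ι : Type} [LinearOrder ι] [Fintype ι] (U : ι → W.Opens)

include hw' in
theorem fn_toSec_ψ {V : Z₂.Opens} {V₃ : Z₃.Opens} (e : V₃ ≤ p'.h ⁻¹ᵁ V) (r : A) :
    fn p'.h e (toSec A a₂ V r) = toSec B' a₃ V₃ (ψ r) := by
  let alg : Algebra A B' := ψ.toRingHom.toAlgebra
  exact fn_toSec' p' hw' e r

include hpp in
theorem kP_comp (U : W.Opens) (x : (KP b₁ i₁ σ₁).obj (op U)) :
    kmap p' p₀' hp' U (kmap p p₀ hp U x) = kmap p'' p₀'' hp'' U x := by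
  apply kval_injective
  rw [kval_kmap, kval_kmap, kval_kmap, fn_comp]
  exact fn_congr hpp _ _

include hw' hpp in
/-- Naturality of the comparison map. -/
theorem cbK_natural (n : ℕ) (κ : KC a₁ b₁ i₁ σ₁ U n ⊗[B] A) :
    (cech U).Kmap n (kP p' p₀' hp') (cbK p p₀ hp hw U n κ) =
      cbK p'' p₀'' hp'' hw'' U n (ψ.toLinearMap.lTensor _ κ) := by
  induction κ using TensorProduct.induction_on with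
  | zero => simp only [map_zero]
  | add x y hx hy => simp only [map_add, hx, hy]
  | tmul c a =>
    rw [LinearMap.lTensor_tmul]
    funext s
    apply kval_injective
    rw [kval_cbK_tmul]
    change fn p'.h _ (kval ((cbK p p₀ hp hw U n (c ⊗ₜ a) : (cech U).K n (KP b₂ i₂ σ₂)) s)) = _
    rw [kval_cbK_tmul, map_mul, fn_toSec_ψ p' ψ hw', fn_comp, fn_congr hpp]
    rfl

end Two

end Groth.Agent.Pic13.H958.CoreAlg
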