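import Groth.Prelude.Def_Coh
import Mathlib.LinearAlgebra.FreeModule.Basic

/-!
# Modules all of whose base changes have finite free cohomology

`HFree f N` : for every ring `B` and every `t : Spec B ⟶ S`, all `H^j(X ×_S Spec B, N_B)` are finite free over `B`.
-/

set_option autoImplicit false
universe u
open CategoryTheory CategoryTheory.Limits AlgebraicGeometry

namespace Groth.Agent.Pic13.H958.HFree

/-- The structure of a scheme over `Spec B` on `X ×_S Spec B`. -/
@[reducible] noncomputable def overB {X S : Scheme.{u}} (f : X ⟶ S) (B : Type u) [CommRing B]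
    (t : Spec (CommRingCat.of B) ⟶ S) : (pullback f t).Over (Spec (CommRingCat.of B)) :=
  ⟨pullback.snd f t⟩

/-- All the cohomology modules of all the base changes of `N` to affine schemes are finite free. -/
def HFree {X S : Scheme.{u}} (f : X ⟶ S) (N : X.Modules) : Prop :=
  ∀ (B : Type u) [CommRing B] (t : Spec (CommRingCat.of B) ⟶ S) (j : ℕ),
    letI := overB f B t
    Module.Free B (Coh.HH (pullback f t) ((Scheme.Modules.pullback (pullback.fst f t)).obj N) j) ∧
      Module.Finite B (Coh.HH (pullback f t) ((Scheme.Modules.pullback (pullback.fst f t)).obj N) j)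

end Groth.Agent.Pic13.H958.HFree
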