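import Groth.Agent.Ega3B.CoefSysPre

/-!
# Ordered Čech cochains in low degrees

Explicit formulas for the differentials `(cech U).δ 0`, `(cech U).δ 1` and the alternating extension of a
`1`-cochain.
-/

set_option autoImplicit false
set_option linter.unusedSectionVars false
universe u

open Finset CategoryTheory Opposite TopologicalSpace

namespace Groth.Agent.Pic13.H958.Ord

open Groth.Agent.Ega3B Cube CubeData CombRes CoefSys

variable {ι : Type} [LinearOrder ι] [Fintype ι]

/-- The index `{i}`. -/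
def sg (i : ι) : BB (ι := ι) NE 1 0 := ⟨{i}, singleton_nonempty i, by simp⟩

/-- The index `{i < j}`. -/
def pr (i j : ι) (h : i < j) : BB (ι := ι) NE 1 1 := ⟨{i, j}, insert_nonempty _ _, card_pair h.ne⟩

/-- The index `{i < j < k}`. -/
def tr (i j k : ι) (h : i < j) (h' : j < k) : BB (ι := ι) NE 1 2 :=
  ⟨{i, j, k}, insert_nonempty _ _, by
    rw [card_insert_of_notMem, card_pair h'.ne]
    rw [mem_insert, mem_singleton]
    rintro (e | e)
    · exact h.ne e
    · exact (h.trans h').ne e⟩

theorem exists_sg (b : BB (ι := ι) NE 1 0) : ∃ i, b = sg i := by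
  obtain ⟨s, hs, hs'⟩ := b
  obtain ⟨a, rfl⟩ := card_eq_one.1 (by simpa using hs')
  exact ⟨a, rfl⟩

theorem exists_pr (b : BB (ι := ι) NE 1 1) : ∃ (i j : ι) (h : i < j), b = pr i j h := by
  obtain ⟨s, hs, hs'⟩ := b
  obtain ⟨a, c, hac, rfl⟩ := card_eq_two.1 (by simpa using hs')
  rcases lt_or_gt_of_ne hac with h | h
  · exact ⟨a, c, h, rfl⟩
  · exact ⟨c, a, h, Subtype.ext (pair_comm a c)⟩

theorem exists_tr (b : BB (ι := ι) NE 1 2) :
    ∃ (i j k : ι) (h : i < j) (h' : j < k), b = tr i j k h h' := by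
  obtain ⟨s, hs, hs'⟩ := b
  have hc : s.card = 3 := by simpa using hs'
  let i := s.min' hs
  let k := s.max' hs
  have hik : i < k := min'_lt_max'_of_card s (by omega)
  have h1 : i ∈ s := min'_mem s hs
  have h2 : k ∈ s := max'_mem s hs
  have hc1 : ((s.erase i).erase k).card = 1 := by
    rw [card_erase_of_mem (mem_erase.2 ⟨hik.ne', h2⟩), card_erase_of_mem h1, hc]
  obtain ⟨j, hj⟩ := card_eq_one.1 hc1
  have hj' : j ∈ (s.erase i).erase k := by rw [hj]; exact mem_singleton_self j
  rw [mem_erase, mem_erase] at hj'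
  obtain ⟨hjk, hji, hjs⟩ := hj'
  have hij : i < j := lt_of_le_of_ne (min'_le s j hjs) (Ne.symm hji)
  have hjk' : j < k := lt_of_le_of_ne (le_max' s j hjs) hjk
  refine ⟨i, j, k, hij, hjk', Subtype.ext ?_⟩
  change s = {i, j, k}
  have e1 : s.erase i = insert k {j} := by
    rw [← hj, insert_erase (mem_erase.2 ⟨hik.ne', h2⟩)]
  rw [← insert_erase h1, e1, pair_comm k j]

section sgn

theorem sgn_pr_left {i j : ι} (h : i < j) : sgn i ({i, j} : Finset ι) = 1 := by
  unfold sgn
  rw [filter_eq_empty_iff.2]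
  · simp
  · intro x hx
    rw [mem_insert, mem_singleton] at hx
    rcases hx with rfl | rfl
    · exact lt_irrefl _
    · exact h.not_gt

theorem sgn_pr_right {i j : ι} (h : i < j) : sgn j ({i, j} : Finset ι) = -1 := by
  unfold sgn
  have e : ({i, j} : Finset ι).filter (· < j) = {i} := by
    ext x
    rw [mem_filter, mem_insert, mem_singleton, mem_singleton]
    constructor
    · rintro ⟨rfl | rfl, hx⟩
      · rfl
      · exact absurd hx (lt_irrefl _)
    · rintro rfl
      exact ⟨Or.inl rfl, h⟩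
  rw [e, card_singleton, pow_one]

theorem sgn_tr_left {i j k : ι} (h : i < j) (h' : j < k) : sgn i ({i, j, k} : Finset ι) = 1 := by
  unfold sgn
  rw [filter_eq_empty_iff.2]
  · simp
  · intro x hx
    rw [mem_insert, mem_insert, mem_singleton] at hx
    rcases hx with rfl | rfl | rfl
    · exact lt_irrefl _
    · exact h.not_gt
    · exact (h.trans h').not_gt

theorem sgn_tr_mid {i j k : ι} (h : i < j) (h' : j < k) : sgn j ({i, j, k} : Finset ι) = -1 := by
  unfold sgn
  have e : ({i, j, k} : Finset ι).filter (· < j) = {i} := by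
    ext x
    rw [mem_filter, mem_insert, mem_insert, mem_singleton, mem_singleton]
    constructor
    · rintro ⟨rfl | rfl | rfl, hx⟩
      · rfl
      · exact absurd hx (lt_irrefl _)
      · exact absurd hx h'.not_gt
    · rintro rfl
      exact ⟨Or.inl rfl, h⟩
  rw [e, card_singleton, pow_one]

theorem sgn_tr_right {i j k : ι} (h : i < j) (h' : j < k) : sgn k ({i, j, k} : Finset ι) = 1 := by
  unfold sgn
  have e : ({i, j, k} : Finset ι).filter (· < k) = {i, j} := by
    ext x
    rw [mem_filter, mem_insert, mem_insert, mem_singleton, mem_insert, mem_singleton]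
    constructor
    · rintro ⟨rfl | rfl | rfl, hx⟩
      · exact Or.inl rfl
      · exact Or.inr rfl
      · exact absurd hx (lt_irrefl _)
    · rintro (rfl | rfl)
      · exact ⟨Or.inl rfl, h.trans h'⟩
      · exact ⟨Or.inr (Or.inl rfl), h'⟩
  rw [e, card_pair h.ne]
  norm_num

end sgn

section

variable {X : TopCat.{u}} (U : ι → Opens X) {G : (Opens X)ᵒᵖ ⥤ AddCommGrpCat.{u}}

/-- Restriction of sections of a presheaf. -/
noncomputable def rs (G : (Opens X)ᵒᵖ ⥤ AddCommGrpCat.{u}) {V V' : Opens X} (h : V' ≤ V) :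
    G.obj (op V) →+ G.obj (op V') := (G.map (homOfLE h).op).hom

theorem rs_rs {V V' V'' : Opens X} (h : V' ≤ V) (h' : V'' ≤ V') (x : G.obj (op V)) :
    rs G h' (rs G h x) = rs G (h'.trans h) x := by
  unfold rs
  rw [← ConcreteCategory.comp_apply, ← G.map_comp]
  rfl

theorem rs_self {V : Opens X} (h : V ≤ V) (x : G.obj (op V)) : rs G h x = x := by
  unfold rs
  have : (homOfLE h).op = 𝟙 (op V) := rfl
  rw [this, G.map_id]
  rfl

/-- Value of a cochain restricted to a smaller open. -/
theorem evx_res {n : ℕ} (x : (cech U).K n G) (b' : BB (ι := ι) NE 1 n) (t : Finset ι) (ht : t = b'.1)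
    (b : Finset ι) (hsub : t ⊆ b) (h : b.inf U ≤ b'.1.inf U) :
    (G.map (homOfLE (Finset.inf_mono hsub : b.inf U ≤ t.inf U)).op).hom.toIntLinearMap
      (evx ℤ (M := fun s => G.obj (op (s.inf U))) n t x) = rs G h (x b') := by
  subst ht
  rw [evx_val]
  rfl

theorem le_pr_left {i j : ι} (h : i < j) : (pr i j h).1.inf U ≤ U i :=
  Finset.inf_le (mem_insert_self _ _)

theorem le_pr_right {i j : ι} (h : i < j) : (pr i j h).1.inf U ≤ U j :=
  Finset.inf_le (mem_insert_of_mem (mem_singleton_self _))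

theorem le_pr {i j : ι} (h : i < j) {T : Opens X} (hi : T ≤ U i) (hj : T ≤ U j) :
    T ≤ (pr i j h).1.inf U := by
  refine Finset.le_inf fun a ha => ?_
  rcases mem_insert.1 ha with rfl | ha
  · exact hi
  · rw [mem_singleton.1 ha]; exact hj

theorem le_sg {i : ι} {T : Opens X} (hi : T ≤ U i) : T ≤ (sg i).1.inf U := by
  refine Finset.le_inf fun a ha => ?_
  rw [mem_singleton.1 ha]; exact hi

theorem sg_le (i : ι) : (sg i).1.inf U ≤ U i := Finset.inf_le (mem_singleton_self _)

theorem le_tr {i j k : ι} (h : i < j) (h' : j < k) {T : Opens X} (hi : T ≤ U i) (hj : T ≤ U j)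
    (hk : T ≤ U k) : T ≤ (tr i j k h h').1.inf U := by
  refine Finset.le_inf fun a ha => ?_
  rcases mem_insert.1 ha with rfl | ha
  · exact hi
  rcases mem_insert.1 ha with rfl | ha
  · exact hj
  · rw [mem_singleton.1 ha]; exact hk

theorem tr_le₁ {i j k : ι} (h : i < j) (h' : j < k) : (tr i j k h h').1.inf U ≤ U i :=
  Finset.inf_le (mem_insert_self _ _)

theorem tr_le₂ {i j k : ι} (h : i < j) (h' : j < k) : (tr i j k h h').1.inf U ≤ U j :=
  Finset.inf_le (mem_insert_of_mem (mem_insert_self _ _))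

theorem tr_le₃ {i j k : ι} (h : i < j) (h' : j < k) : (tr i j k h h').1.inf U ≤ U k :=
  Finset.inf_le (mem_insert_of_mem (mem_insert_of_mem (mem_singleton_self _)))

/-- The differential in degree `0`. -/
theorem δ_zero (x : (cech U).K 0 G) {i j : ι} (h : i < j) :
    (cech U).δ 0 G x (pr i j h) = rs G (le_sg U (le_pr_right U h)) (x (sg j)) -
      rs G (le_sg U (le_pr_left U h)) (x (sg i)) := by
  rw [cech_δ_eq, dl_apply]
  change ∑ a ∈ ({i, j} : Finset ι), sgn a ({i, j} : Finset ι) •
    (G.map (homOfLE (Finset.inf_mono (erase_subset a ({i, j} : Finset ι)) :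
      ({i, j} : Finset ι).inf U ≤ (({i, j} : Finset ι).erase a).inf U)).op).hom.toIntLinearMap
      (evx ℤ (M := fun s => G.obj (op (s.inf U))) 0 (({i, j} : Finset ι).erase a) x) = _
  rw [sum_pair h.ne, sgn_pr_left h, sgn_pr_right h, one_smul, neg_one_smul]
  have e1 : ({i, j} : Finset ι).erase i = {j} := by
    rw [erase_insert]
    rw [mem_singleton]; exact h.ne
  have e2 : ({i, j} : Finset ι).erase j = {i} := by
    rw [pair_comm, erase_insert]
    rw [mem_singleton]; exact h.ne'
  refine (congrArg₂ (· + ·) (evx_res U x (sg j) _ e1 ({i, j} : Finset ι) (erase_subset _ _) (le_sg U (le_pr_right U h)))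
    (congrArg Neg.neg (evx_res U x (sg i) _ e2 ({i, j} : Finset ι) (erase_subset _ _) (le_sg U (le_pr_left U h))))).trans ?_
  exact (sub_eq_add_neg _ _).symm

/-- The differential in degree `1`. -/
theorem δ_one (x : (cech U).K 1 G) {i j k : ι} (h : i < j) (h' : j < k) :
    (cech U).δ 1 G x (tr i j k h h') =
      rs G (le_pr U h' (tr_le₂ U h h') (tr_le₃ U h h')) (x (pr j k h')) -
      rs G (le_pr U (h.trans h') (tr_le₁ U h h') (tr_le₃ U h h')) (x (pr i k (h.trans h'))) +
      rs G (le_pr U h (tr_le₁ U h h') (tr_le₂ U h h')) (x (pr i j h)) := by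
  rw [cech_δ_eq, dl_apply]
  change ∑ a ∈ ({i, j, k} : Finset ι), sgn a ({i, j, k} : Finset ι) •
    (G.map (homOfLE (Finset.inf_mono (erase_subset a ({i, j, k} : Finset ι)) :
      ({i, j, k} : Finset ι).inf U ≤ (({i, j, k} : Finset ι).erase a).inf U)).op).hom.toIntLinearMap
      (evx ℤ (M := fun s => G.obj (op (s.inf U))) 1 (({i, j, k} : Finset ι).erase a) x) = _
  have hij : i ∉ ({j, k} : Finset ι) := by
    rw [mem_insert, mem_singleton]
    rintro (e | e)
    · exact h.ne e
    · exact (h.trans h').ne e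
  rw [sum_insert hij, sum_pair h'.ne, sgn_tr_left h h', sgn_tr_mid h h', sgn_tr_right h h', one_smul,
    neg_one_smul, one_smul]
  have e1 : ({i, j, k} : Finset ι).erase i = {j, k} := erase_insert hij
  have e2 : ({i, j, k} : Finset ι).erase j = {i, k} := by
    have e : ({i, j, k} : Finset ι) = insert j {i, k} := insert_comm i j {k}
    rw [e, erase_insert]
    rw [mem_insert, mem_singleton]
    rintro (e | e)
    · exact h.ne' e
    · exact h'.ne e
  have e3 : ({i, j, k} : Finset ι).erase k = {i, j} := by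
    have e : ({i, j, k} : Finset ι) = insert k {i, j} := by
      rw [insert_comm k i, pair_comm k j]
    rw [e, erase_insert]
    rw [mem_insert, mem_singleton]
    rintro (e | e)
    · exact (h.trans h').ne' e
    · exact h'.ne' e
  refine (congrArg₂ (· + ·)
    (evx_res U x (pr j k h') _ e1 ({i, j, k} : Finset ι) (erase_subset _ _) (le_pr U h' (tr_le₂ U h h') (tr_le₃ U h h')))
    (congrArg₂ (· + ·) (congrArg Neg.neg
      (evx_res U x (pr i k (h.trans h')) _ e2 ({i, j, k} : Finset ι) (erase_subset _ _) (le_pr U (h.trans h') (tr_le₁ U h h') (tr_le₃ U h h'))))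
      (evx_res U x (pr i j h) _ e3 ({i, j, k} : Finset ι) (erase_subset _ _) (le_pr U h (tr_le₁ U h h') (tr_le₂ U h h'))))).trans ?_
  rw [sub_eq_add_neg]
  exact (add_assoc _ _ _).symm

theorem K0_ext {x y : (cech U).K 0 G} (h : ∀ i, x (sg i) = y (sg i)) : x = y := by
  funext b
  obtain ⟨i, rfl⟩ := exists_sg b
  exact h i

theorem K1_ext {x y : (cech U).K 1 G} (h : ∀ (i j : ι) (hij : i < j), x (pr i j hij) = y (pr i j hij)) :
    x = y := by
  funext b
  obtain ⟨i, j, hij, rfl⟩ := exists_pr b
  exact h i j hij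

theorem K2_ext {x y : (cech U).K 2 G} (h : ∀ (i j k : ι) (hij : i < j) (hjk : j < k),
    x (tr i j k hij hjk) = y (tr i j k hij hjk)) : x = y := by
  funext b
  obtain ⟨i, j, k, hij, hjk, rfl⟩ := exists_tr b
  exact h i j k hij hjk

/-- The alternating extension of a `1`-cochain. -/
noncomputable def alt (x : (cech U).K 1 G) (i j : ι) (T : Opens X) (hi : T ≤ U i) (hj : T ≤ U j) :
    G.obj (op T) :=
  if h : i < j then rs G (le_pr U h hi hj) (x (pr i j h)) else
  if h : j < i then - rs G (le_pr U h hj hi) (x (pr j i h)) else 0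

theorem alt_lt (x : (cech U).K 1 G) {i j : ι} (h : i < j) {T : Opens X} (hi : T ≤ U i) (hj : T ≤ U j) :
    alt U x i j T hi hj = rs G (le_pr U h hi hj) (x (pr i j h)) := by
  rw [alt, dif_pos h]

theorem alt_gt (x : (cech U).K 1 G) {i j : ι} (h : j < i) {T : Opens X} (hi : T ≤ U i) (hj : T ≤ U j) :
    alt U x i j T hi hj = - rs G (le_pr U h hj hi) (x (pr j i h)) := by
  rw [alt, dif_neg h.not_gt, dif_pos h]

theorem alt_self (x : (cech U).K 1 G) {i : ι} {T : Opens X} (hi : T ≤ U i) (hj : T ≤ U i) :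
    alt U x i i T hi hj = 0 := by
  rw [alt, dif_neg (lt_irrefl i), dif_neg (lt_irrefl i)]

theorem alt_swap (x : (cech U).K 1 G) {i j : ι} {T : Opens X} (hi : T ≤ U i) (hj : T ≤ U j) :
    alt U x j i T hj hi = - alt U x i j T hi hj := by
  rcases lt_trichotomy i j with h | rfl | h
  · rw [alt_gt U x h, alt_lt U x h]
  · rw [alt_self, neg_zero]
  · rw [alt_lt U x h, alt_gt U x h, neg_neg]

theorem rs_alt (x : (cech U).K 1 G) {i j : ι} {T T' : Opens X} (hi : T ≤ U i) (hj : T ≤ U j)
    (h' : T' ≤ T) : rs G h' (alt U x i j T hi hj) = alt U x i j T' (h'.trans hi) (h'.trans hj) := by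
  rcases lt_trichotomy i j with h | rfl | h
  · rw [alt_lt U x h, alt_lt U x h, rs_rs]
  · rw [alt_self, alt_self, map_zero]
  · rw [alt_gt U x h, alt_gt U x h, map_neg, rs_rs]

theorem alt_add_alt_aux (x : (cech U).K 1 G) (hx : (cech U).δ 1 G x = 0) {i j k : ι} (h : i < j)
    (h' : j < k) {T : Opens X} (hi : T ≤ U i) (hj : T ≤ U j) (hk : T ≤ U k) :
    alt U x i j T hi hj + alt U x j k T hj hk = alt U x i k T hi hk := by
  have e := congrArg (rs G (le_tr U h h' hi hj hk)) (congrFun hx (tr i j k h h'))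
  rw [δ_one] at e
  change _ = rs G _ (0 : G.obj _) at e
  rw [map_zero, map_add, map_sub, rs_rs, rs_rs, rs_rs] at e
  rw [alt_lt U x h, alt_lt U x h', alt_lt U x (h.trans h'), add_comm]
  rw [sub_add_eq_add_sub, sub_eq_zero] at e
  exact e

/-- The cocycle condition for the alternating extension. -/
theorem alt_add_alt (x : (cech U).K 1 G) (hx : (cech U).δ 1 G x = 0) {i j k : ι} {T : Opens X}
    (hi : T ≤ U i) (hj : T ≤ U j) (hk : T ≤ U k) :
    alt U x i j T hi hj + alt U x j k T hj hk = alt U x i k T hi hk := by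
  rcases eq_or_ne i j with rfl | hij
  · rw [alt_self, zero_add]
  rcases eq_or_ne j k with rfl | hjk
  · rw [alt_self, add_zero]
  rcases eq_or_ne i k with rfl | hik
  · rw [alt_self, alt_swap U x hi hj, add_neg_cancel]
  rcases lt_or_gt_of_ne hij with h1 | h1
  · rcases lt_or_gt_of_ne hjk with h2 | h2
    · exact alt_add_alt_aux U x hx h1 h2 hi hj hk
    · rcases lt_or_gt_of_ne hik with h3 | h3
      · -- i < k < j
        have e := alt_add_alt_aux U x hx h3 h2 hi hk hj
        rw [← e, alt_swap U x hk hj]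
        abel
      · -- k < i < j
        have e := alt_add_alt_aux U x hx h3 h1 hk hi hj
        rw [alt_swap U x hk hj, ← e, alt_swap U x hk hi]
        abel
  · rcases lt_or_gt_of_ne hjk with h2 | h2
    · rcases lt_or_gt_of_ne hik with h3 | h3
      · -- j < i < k
        have e := alt_add_alt_aux U x hx h1 h3 hj hi hk
        rw [← e, alt_swap U x hj hi]
        abel
      · -- j < k < i
        have e := alt_add_alt_aux U x hx h2 h3 hj hk hi
        rw [alt_swap U x hj hi, ← e, alt_swap U x hk hi]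
        abel
    · -- k < j < i
      have e := alt_add_alt_aux U x hx h2 h1 hk hj hi
      rw [alt_swap U x hj hi, alt_swap U x hk hj, alt_swap U x hk hi, ← e]
      abel

end

end Groth.Agent.Pic13.H958.Ord
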