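import Groth.Agent.Fga.Units

/-!
# Relative units

For `b : Z ⟶ W` and `y : Y ⟶ Z`, `relUnits b y` is the sheaf on `W` of the units of `Z` over `b⁻¹ U`
which restrict to `1` on `Y`; it is functorial in the pair `(Z, Y)` over `W` (`relMap`).
-/

set_option autoImplicit false
universe u
open CategoryTheory CategoryTheory.Limits AlgebraicGeometry Opposite TopologicalSpace

namespace Groth.Agent.Pic13.H958.RelUnits

open Groth.Agent.CohtopA.Sec Groth.Agent.Fga.Units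

section Kernel

variable {W : TopCat.{u}} {F G : CohTop.Ab W}

/-- A morphism of sheaves from maps on sections. -/
noncomputable def mkHom (φ : ∀ U : Opens W, Γs F U →+ Γs G U)
    (hφ : ∀ (U V : Opens W) (h : V ≤ U) (s : Γs F U), φ V (r F h s) = r G h (φ U s)) : F ⟶ G :=
  ⟨{ app := fun U => AddCommGrpCat.ofHom (φ U.unop)
     naturality := fun U V i => by
       ext s
       exact hφ U.unop V.unop (leOfHom i.unop) s }⟩

@[simp] theorem m_mkHom (φ : ∀ U : Opens W, Γs F U →+ Γs G U)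
    (hφ : ∀ (U V : Opens W) (h : V ≤ U) (s : Γs F U), φ V (r F h s) = r G h (φ U s))
    (U : Opens W) (s : Γs F U) : m (mkHom φ hφ) U s = φ U s := rfl

theorem hom_ext_m {φ ψ : F ⟶ G} (h : ∀ (U : Opens W) (s : Γs F U), m φ U s = m ψ U s) : φ = ψ := by
  ext U s
  exact h U.unop s

variable (f : F ⟶ G)

theorem m_kernel_ι {U : Opens W} (t : Γs (kernel f) U) : m f U (m (kernel.ι f) U t) = 0 := by
  rw [← m_comp, kernel.condition]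
  rfl

theorem kernel_ι_injective (U : Opens W) : Function.Injective (m (kernel.ι f) U) :=
  m_injective (kernel.ι f) U

theorem exists_kernel {U : Opens W} (s : Γs F U) (hs : m f U s = 0) :
    ∃ t : Γs (kernel f) U, m (kernel.ι f) U t = s := by
  let ev : CohTop.Ab W ⥤ AddCommGrpCat.{u} :=
    sheafToPresheaf _ _ ⋙ (evaluation _ _).obj (op U)
  let S : ShortComplex (CohTop.Ab W) := ShortComplex.mk (kernel.ι f) f (kernel.condition f)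
  have h1 : S.Exact := ShortComplex.exact_of_f_is_kernel _ (kernelIsKernel f)
  have h2 : Mono S.f := inferInstanceAs (Mono (kernel.ι f))
  have h3 := (h1.map_of_mono_of_preservesKernel ev inferInstance inferInstance)
  rw [ShortComplex.ab_exact_iff] at h3
  exact h3 s hs

end Kernel

variable {W Z Z₁ Z₂ Z₃ Y Y₁ Y₂ Y₃ : Scheme.{u}}

/-- Units pulled back. -/
noncomputable def appU (h : Z₂ ⟶ Z₁) {V₁ : Z₁.Opens} {V₂ : Z₂.Opens} (e : V₂ ≤ h ⁻¹ᵁ V₁) :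
    Γ(Z₁, V₁)ˣ →* Γ(Z₂, V₂)ˣ := Units.map ((h.appLE V₁ V₂ e).hom : Γ(Z₁, V₁) →* Γ(Z₂, V₂))

@[simp] theorem appU_val (h : Z₂ ⟶ Z₁) {V₁ : Z₁.Opens} {V₂ : Z₂.Opens} (e : V₂ ≤ h ⁻¹ᵁ V₁)
    (s : Γ(Z₁, V₁)ˣ) : (appU h e s : Γ(Z₂, V₂)) = h.appLE V₁ V₂ e (s : Γ(Z₁, V₁)) := rfl

theorem le_of_comp {h : Z₂ ⟶ Z₁} {b₁ : Z₁ ⟶ W} {b₂ : Z₂ ⟶ W} (w : h ≫ b₁ = b₂) (U : W.Opens) :
    b₂ ⁻¹ᵁ U ≤ h ⁻¹ᵁ (b₁ ⁻¹ᵁ U) := by subst w; exact le_rfl

/-- The map on sections of `pushMap`. -/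
noncomputable def pushSec (h : Z₂ ⟶ Z₁) {b₁ : Z₁ ⟶ W} {b₂ : Z₂ ⟶ W} (w : h ≫ b₁ = b₂) (U : W.Opens) :
    Γs (pushUnits b₁) U →+ Γs (pushUnits b₂) U where
  toFun s := pmk b₂ (appU h (le_of_comp w U) (pval b₁ s))
  map_zero' := by
    rw [pval_zero, map_one]
    rfl
  map_add' s t := by
    rw [pval_add, map_mul, pmk_mul]

/-- `b₁_* O^* ⟶ b₂_* O^*` for a morphism `h` over `W`. -/
noncomputable def pushMap (h : Z₂ ⟶ Z₁) {b₁ : Z₁ ⟶ W} {b₂ : Z₂ ⟶ W} (w : h ≫ b₁ = b₂) :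
    pushUnits b₁ ⟶ pushUnits b₂ :=
  mkHom (pushSec h w) (by
    intro U V i s
    apply pval_injective b₂
    apply Units.ext
    change h.appLE _ _ _ (Z₁.presheaf.map (homOfLE (b₁.preimage_mono i)).op (pval b₁ s : Γ(Z₁, b₁ ⁻¹ᵁ U))) =
      Z₂.presheaf.map (homOfLE (b₂.preimage_mono i)).op (h.appLE _ _ (le_of_comp w U) (pval b₁ s : Γ(Z₁, b₁ ⁻¹ᵁ U)))
    rw [← ConcreteCategory.comp_apply, ← ConcreteCategory.comp_apply, Scheme.Hom.map_appLE,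
      Scheme.Hom.appLE_map])

theorem pval_pushMap (h : Z₂ ⟶ Z₁) {b₁ : Z₁ ⟶ W} {b₂ : Z₂ ⟶ W} (w : h ≫ b₁ = b₂) {U : W.Opens}
    (s : Γs (pushUnits b₁) U) :
    pval b₂ (m (pushMap h w) U s) = appU h (le_of_comp w U) (pval b₁ s) := rfl

/-- The sheaf on `W` of units of `Z` equal to `1` on `Y`. -/
noncomputable def relUnits (b : Z ⟶ W) (y : Y ⟶ Z) : CohTop.Ab W :=
  kernel (pushMap y (rfl : y ≫ b = y ≫ b))

/-- The inclusion `relUnits b y ⟶ b_* O_Z^*`. -/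
noncomputable def rι (b : Z ⟶ W) (y : Y ⟶ Z) : relUnits b y ⟶ pushUnits b :=
  kernel.ι (pushMap y (rfl : y ≫ b = y ≫ b))

theorem rι_comp (b : Z ⟶ W) (y : Y ⟶ Z) : rι b y ≫ pushMap y (rfl : y ≫ b = y ≫ b) = 0 :=
  kernel.condition _

/-- The unit given by a section of `relUnits`. -/
noncomputable def rval (b : Z ⟶ W) (y : Y ⟶ Z) {U : W.Opens} (s : Γs (relUnits b y) U) :
    Γ(Z, b ⁻¹ᵁ U)ˣ := pval b (m (rι b y) U s)

theorem rval_injective (b : Z ⟶ W) (y : Y ⟶ Z) {U : W.Opens} :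
    Function.Injective (rval b y (U := U)) := fun _ _ h =>
  kernel_ι_injective _ U (pval_injective b h)

theorem rval_add (b : Z ⟶ W) (y : Y ⟶ Z) {U : W.Opens} (s t : Γs (relUnits b y) U) :
    rval b y (s + t) = rval b y s * rval b y t := by
  unfold rval
  rw [map_add, pval_add]

theorem rval_zero (b : Z ⟶ W) (y : Y ⟶ Z) {U : W.Opens} :
    rval b y (0 : Γs (relUnits b y) U) = 1 := by
  unfold rval
  rw [map_zero, pval_zero]

theorem rval_r (b : Z ⟶ W) (y : Y ⟶ Z) {U V : W.Opens} (h : V ≤ U) (s : Γs (relUnits b y) U) :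
    (rval b y (r (relUnits b y) h s) : Γ(Z, b ⁻¹ᵁ V)) =
      ores (b.preimage_mono h) (rval b y s : Γ(Z, b ⁻¹ᵁ U)) := by
  unfold rval
  rw [m_r, pval_r]

theorem app_rval (b : Z ⟶ W) (y : Y ⟶ Z) {U : W.Opens} (s : Γs (relUnits b y) U) :
    y.app (b ⁻¹ᵁ U) (rval b y s : Γ(Z, b ⁻¹ᵁ U)) = 1 := by
  have h0 : m (pushMap y (rfl : y ≫ b = y ≫ b)) U (m (rι b y) U s) = 0 := by
    rw [← m_comp, rι_comp]
    rfl
  have h := congrArg (fun t => (pval (y ≫ b) t : Γ(Y, (y ≫ b) ⁻¹ᵁ U))) h0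
  change (pval (y ≫ b) (m (pushMap y (rfl : y ≫ b = y ≫ b)) U (m (rι b y) U s)) :
    Γ(Y, (y ≫ b) ⁻¹ᵁ U)) = 1 at h
  rw [pval_pushMap, appU_val] at h
  rw [← Scheme.Hom.appLE_eq_app]
  exact h

/-- The section of `relUnits` given by a unit equal to `1` on `Y`. -/
theorem exists_rval (b : Z ⟶ W) (y : Y ⟶ Z) {U : W.Opens} (u : Γ(Z, b ⁻¹ᵁ U)ˣ)
    (hu : y.app (b ⁻¹ᵁ U) (u : Γ(Z, b ⁻¹ᵁ U)) = 1) : ∃ s : Γs (relUnits b y) U, rval b y s = u := by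
  have h0 : m (pushMap y (rfl : y ≫ b = y ≫ b)) U (pmk b u) = 0 := by
    apply pval_injective (y ≫ b)
    apply Units.ext
    rw [pval_pushMap, pval_pmk, appU_val]
    rw [← Scheme.Hom.appLE_eq_app] at hu
    exact hu
  obtain ⟨t, ht⟩ := exists_kernel (pushMap y (rfl : y ≫ b = y ≫ b)) (pmk b u) h0
  exact ⟨t, congrArg (pval b) ht⟩

/-- The section of `relUnits` given by a unit equal to `1` on `Y`. -/
noncomputable def rmk (b : Z ⟶ W) (y : Y ⟶ Z) {U : W.Opens} (u : Γ(Z, b ⁻¹ᵁ U)ˣ)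
    (hu : y.app (b ⁻¹ᵁ U) (u : Γ(Z, b ⁻¹ᵁ U)) = 1) : Γs (relUnits b y) U :=
  (exists_rval b y u hu).choose

@[simp] theorem rval_rmk (b : Z ⟶ W) (y : Y ⟶ Z) {U : W.Opens} (u : Γ(Z, b ⁻¹ᵁ U)ˣ)
    (hu : y.app (b ⁻¹ᵁ U) (u : Γ(Z, b ⁻¹ᵁ U)) = 1) : rval b y (rmk b y u hu) = u :=
  (exists_rval b y u hu).choose_spec

/-- A morphism of pairs over `W`. -/
structure PairHom (b₁ : Z₁ ⟶ W) (y₁ : Y₁ ⟶ Z₁) (b₂ : Z₂ ⟶ W) (y₂ : Y₂ ⟶ Z₂) where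
  h : Z₂ ⟶ Z₁
  k : Y₂ ⟶ Y₁
  w : h ≫ b₁ = b₂
  sq : k ≫ y₁ = y₂ ≫ h

namespace PairHom

/-- Composition of morphisms of pairs. -/
def comp {b₁ : Z₁ ⟶ W} {y₁ : Y₁ ⟶ Z₁} {b₂ : Z₂ ⟶ W} {y₂ : Y₂ ⟶ Z₂} {b₃ : Z₃ ⟶ W} {y₃ : Y₃ ⟶ Z₃}
    (p : PairHom b₁ y₁ b₂ y₂) (q : PairHom b₂ y₂ b₃ y₃) : PairHom b₁ y₁ b₃ y₃ where
  h := q.h ≫ p.h
  k := q.k ≫ p.k
  w := by rw [Category.assoc, p.w, q.w]
  sq := by rw [Category.assoc, p.sq, ← Category.assoc, q.sq, Category.assoc]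

end PairHom

variable {b₁ : Z₁ ⟶ W} {y₁ : Y₁ ⟶ Z₁} {b₂ : Z₂ ⟶ W} {y₂ : Y₂ ⟶ Z₂} {b₃ : Z₃ ⟶ W} {y₃ : Y₃ ⟶ Z₃}

/-- Functoriality of `relUnits`. -/
noncomputable def relMap (p : PairHom b₁ y₁ b₂ y₂) : relUnits b₁ y₁ ⟶ relUnits b₂ y₂ :=
  kernel.lift _ (rι b₁ y₁ ≫ pushMap p.h p.w) (by
    have e : pushMap p.h p.w ≫ pushMap y₂ (rfl : y₂ ≫ b₂ = y₂ ≫ b₂) =
        pushMap y₁ (rfl : y₁ ≫ b₁ = y₁ ≫ b₁) ≫ pushMap p.k (b₁ := y₁ ≫ b₁) (b₂ := y₂ ≫ b₂)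
          (by rw [← Category.assoc, p.sq, Category.assoc, p.w]) := by
      apply hom_ext_m
      intro U s
      rw [m_comp, m_comp]
      apply pval_injective
      apply Units.ext
      rw [pval_pushMap, pval_pushMap, pval_pushMap, pval_pushMap, appU_val, appU_val, appU_val, appU_val,
        ← ConcreteCategory.comp_apply, ← ConcreteCategory.comp_apply, Scheme.Hom.appLE_comp_appLE,
        Scheme.Hom.appLE_comp_appLE]
      simp only [p.sq]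
    rw [Category.assoc, e, ← Category.assoc, rι_comp, zero_comp])

theorem relMap_rι (p : PairHom b₁ y₁ b₂ y₂) : relMap p ≫ rι b₂ y₂ = rι b₁ y₁ ≫ pushMap p.h p.w :=
  kernel.lift_ι _ _ _

theorem rval_relMap (p : PairHom b₁ y₁ b₂ y₂) {U : W.Opens} (s : Γs (relUnits b₁ y₁) U) :
    rval b₂ y₂ (m (relMap p) U s) = appU p.h (le_of_comp p.w U) (rval b₁ y₁ s) := by
  unfold rval
  rw [← m_comp, relMap_rι, m_comp, pval_pushMap]

theorem relMap_comp (p : PairHom b₁ y₁ b₂ y₂) (q : PairHom b₂ y₂ b₃ y₃) :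
    relMap (p.comp q) = relMap p ≫ relMap q := by
  apply hom_ext_m
  intro U s
  apply rval_injective
  apply Units.ext
  rw [m_comp, rval_relMap, rval_relMap, rval_relMap, appU_val, appU_val, appU_val,
    ← ConcreteCategory.comp_apply, Scheme.Hom.appLE_comp_appLE]
  rfl

end Groth.Agent.Pic13.H958.RelUnits
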