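import Groth.Agent.Pic13.H602.Rig
import Groth.Agent.Pic13.H958.RelUnits
import Groth.Agent.Pic13.H958.Ord

/-!
# Rigidified modules and cocycles

`b : Z ⟶ W`, `σ : Y ⟶ Z`, `U` a finite family of opens of `W`. A rigid generator of a rigidified module `R` over `V`
is a generator of `R.L` over `V` with image `1` under the rigidification. `Tr b σ U R e c`: the rigid generators `e i`
over `b⁻¹ (U i)` have the ordered transition cocycle `c`.
-/

set_option autoImplicit false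
set_option linter.unusedSectionVars false
universe u

open CategoryTheory CategoryTheory.Limits AlgebraicGeometry TopologicalSpace Opposite

namespace Groth.Agent.Pic13.H958.Coc

open Groth.Agent.Fdesc Groth.Agent.Fdesc.LocGen Groth.Agent.Picfga Groth.Agent.Picfga.LineHom
  Groth.Agent.Picfga.LineDescent Groth.Agent.Picfga.LineFam
open Groth.Agent.CohtopA.Sec (Γs)
open Groth.Agent.Pic13.H958.RelUnits Groth.Agent.Pic13.H602.Rig Groth.Agent.Pic13.H958.Ord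
open Groth.Agent.Ega3B Cube CubeData CombRes CoefSys

section Rigid

variable {W Z Y : Scheme.{u}} (b : Z ⟶ W) {σ : Y ⟶ Z} (R : RB σ)

/-- Rigid generators. -/
def Rigid {V : Z.Opens} (e : Γ(R.L, V)) : Prop := IsGen e ∧ R.ρ.map e = one _

variable {R}

theorem Rigid.res {V V' : Z.Opens} {e : Γ(R.L, V)} (he : Rigid R e) (h : V' ≤ V) :
    Rigid R (LocGen.res R.L h e) :=
  ⟨he.1.res h, by rw [R.ρ.res, he.2, res_one]⟩

theorem one_eq_ofFun {X : Scheme.{u}} {V : X.Opens} : one V = ofFun (1 : Γ(X, V)) := rfl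

theorem smul_one_inj {X : Scheme.{u}} {V : X.Opens} {a a' : Γ(X, V)} (h : a • one V = a' • one V) :
    a = a' := by
  rw [← ofFun_eq_smul, ← ofFun_eq_smul] at h
  exact ofFun.injective h

theorem Rigid.smul {U : W.Opens} {e : Γ(R.L, b ⁻¹ᵁ U)} (he : Rigid R e) (u : Γs (relUnits b σ) U) :
    Rigid R ((rval b σ u : Γ(Z, b ⁻¹ᵁ U)) • e) := by
  refine ⟨he.1.unit_smul (rval b σ u).isUnit, ?_⟩
  rw [R.ρ.smul, he.2, app_rval, one_smul]

theorem Rigid.exists_unit {U : W.Opens} {e e' : Γ(R.L, b ⁻¹ᵁ U)} (he : Rigid R e) (he' : Rigid R e') :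
    ∃ u : Γs (relUnits b σ) U, e' = (rval b σ u : Γ(Z, b ⁻¹ᵁ U)) • e := by
  obtain ⟨a, ha, hae⟩ := he.1.exists_unit he'.1
  have h1 : σ.app (b ⁻¹ᵁ U) a = 1 := by
    apply smul_one_inj
    have := he'.2
    rw [hae, R.ρ.smul, he.2] at this
    rw [this, one_smul]
  refine ⟨rmk b σ ha.unit h1, ?_⟩
  rw [rval_rmk, hae]
  rfl

theorem Rigid.ext {U : W.Opens} {e : Γ(R.L, b ⁻¹ᵁ U)} (he : Rigid R e) {u u' : Γs (relUnits b σ) U}
    (h : (rval b σ u : Γ(Z, b ⁻¹ᵁ U)) • e = (rval b σ u' : Γ(Z, b ⁻¹ᵁ U)) • e) : u = u' :=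
  rval_injective b σ (Units.ext (he.1.ext h))

/-- Arrows send rigid generators to rigid generators. -/
theorem Rigid.arr {Z' Y' : Scheme.{u}} {σ' : Y' ⟶ Z'} {G : Z' ⟶ Z} {g : Y' ⟶ Y} {w : σ' ≫ G = g ≫ σ}
    {R' : RB σ'} (A : Arr w R R') {V : Z.Opens} {e : Γ(R.L, V)} (he : Rigid R e) :
    Rigid R' (A.θ.map e) := by
  refine ⟨A.θ.gen he.1, ?_⟩
  have h1 := IsArr.map_eq w A.isArr e
  rw [he.2, Fam.can_map] at h1
  have h2 : (ofFun (g.app (σ ⁻¹ᵁ V) (ofFun.symm (one (σ ⁻¹ᵁ V)))) : Γ(Coh.structureModule Y', g ⁻¹ᵁ σ ⁻¹ᵁ V)) =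
      one (g ⁻¹ᵁ σ ⁻¹ᵁ V) := by
    rw [one_eq_ofFun, AddEquiv.symm_apply_apply, map_one]
    rfl
  rw [h2] at h1
  have e3 : σ' ⁻¹ᵁ G ⁻¹ᵁ V ≤ g ⁻¹ᵁ σ ⁻¹ᵁ V := by
    change (σ' ≫ G) ⁻¹ᵁ V ≤ (g ≫ σ) ⁻¹ᵁ V
    rw [w]
  have h3 := congrArg (LocGen.res (Coh.structureModule Y') e3) h1
  rw [res_res, res_one, res_refl] at h3
  exact h3

end Rigid

section Tr

variable {W Z Y : Scheme.{u}} (b : Z ⟶ W) (σ : Y ⟶ Z) {ι : Type} [LinearOrder ι] [Fintype ι]
  (U : ι → W.Opens)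

theorem rval_rs {V V' : W.Opens} (h : V' ≤ V) (s : Γs (relUnits b σ) V) :
    (rval b σ (rs (relUnits b σ).obj h s) : Γ(Z, b ⁻¹ᵁ V')) =
      LocGen.ores (b.preimage_mono h) (rval b σ s : Γ(Z, b ⁻¹ᵁ V)) := rval_r b σ h s

theorem rval_neg {V : W.Opens} (s : Γs (relUnits b σ) V) : rval b σ (-s) = (rval b σ s)⁻¹ := by
  rw [eq_inv_iff_mul_eq_one, ← rval_add, neg_add_cancel, rval_zero]

theorem rval_sub {V : W.Opens} (s t : Γs (relUnits b σ) V) :
    rval b σ (s - t) = rval b σ s * (rval b σ t)⁻¹ := by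
  rw [sub_eq_add_neg, rval_add, rval_neg]

/-- The rigid generators `e i` have transition cocycle `c`. -/
def Tr (R : RB σ) (e : ∀ i, Γ(R.L, b ⁻¹ᵁ U i)) (c : (cech U).K 1 (relUnits b σ).obj) : Prop :=
  ∀ (i j : ι) (h : i < j) (T : W.Opens) (hi : T ≤ U i) (hj : T ≤ U j),
    LocGen.res R.L (b.preimage_mono hi) (e i) =
      (rval b σ (rs (relUnits b σ).obj (le_pr U h hi hj) (c (pr i j h))) : Γ(Z, b ⁻¹ᵁ T)) •
        LocGen.res R.L (b.preimage_mono hj) (e j)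

variable {b σ U}

theorem Tr.alt {R : RB σ} {e : ∀ i, Γ(R.L, b ⁻¹ᵁ U i)} {c : (cech U).K 1 (relUnits b σ).obj}
    (h : Tr b σ U R e c) (i j : ι) (T : W.Opens) (hi : T ≤ U i) (hj : T ≤ U j) :
    LocGen.res R.L (b.preimage_mono hi) (e i) =
      (rval b σ (alt U c i j T hi hj) : Γ(Z, b ⁻¹ᵁ T)) •
        LocGen.res R.L (b.preimage_mono hj) (e j) := by
  rcases lt_trichotomy i j with hij | rfl | hij
  · rw [alt_lt U c hij]
    exact h i j hij T hi hj
  · rw [alt_self, rval_zero, Units.val_one, one_smul]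
  · rw [alt_gt U c hij, rval_neg, h j i hij T hj hi, smul_smul, Units.inv_mul, one_smul]

/-- A family of rigid generators has a transition cocycle. -/
theorem exists_tr' {R : RB σ} (e : ∀ i, Γ(R.L, b ⁻¹ᵁ U i)) (he : ∀ i, Rigid R (e i)) :
    ∃ c : (cech U).K 1 (relUnits b σ).obj, (cech U).δ 1 _ c = 0 ∧ Tr b σ U R e c := by
  have key : ∀ B : BB (ι := ι) NE 1 1, ∃ u : Γs (relUnits b σ) (B.1.inf U), ∀ (i j : ι) (h : i < j)
      (hi : B.1.inf U ≤ U i) (hj : B.1.inf U ≤ U j) (_ : B = pr i j h),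
      LocGen.res R.L (b.preimage_mono hi) (e i) =
        (rval b σ u : Γ(Z, b ⁻¹ᵁ (B.1.inf U))) • LocGen.res R.L (b.preimage_mono hj) (e j) := by
    intro B
    obtain ⟨i, j, h, rfl⟩ := exists_pr B
    obtain ⟨u, hu⟩ := Rigid.exists_unit b ((he j).res (b.preimage_mono (le_pr_right U h)))
      ((he i).res (b.preimage_mono (le_pr_left U h)))
    refine ⟨u, fun i' j' h' hi' hj' hB => ?_⟩
    have hs : ({i, j} : Finset ι) = {i', j'} := congrArg Subtype.val hB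
    have h1 : i' ∈ ({i, j} : Finset ι) := by rw [hs]; simp
    have h2 : j' ∈ ({i, j} : Finset ι) := by rw [hs]; simp
    rw [Finset.mem_insert, Finset.mem_singleton] at h1 h2
    rcases h1 with rfl | rfl
    · rcases h2 with rfl | rfl
      · exact absurd h' (lt_irrefl _)
      · exact hu
    · rcases h2 with rfl | rfl
      · exact absurd h' h.not_gt
      · exact absurd h' (lt_irrefl _)
  choose c hc using key
  have htr : Tr b σ U R e c := by
    intro i j h T hi hj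
    have h1 := congrArg (LocGen.res R.L (b.preimage_mono (le_pr U h hi hj)))
      (hc (pr i j h) i j h (le_pr_left U h) (le_pr_right U h) rfl)
    rw [res_smul, res_res, res_res] at h1
    rw [rval_rs]
    exact h1
  refine ⟨c, ?_, htr⟩
  apply K2_ext
  intro i j k h h'
  rw [δ_one]
  change _ = (0 : Γs (relUnits b σ) _)
  have e1 := htr i j h _ (tr_le₁ U h h') (tr_le₂ U h h')
  have e2 := htr j k h' _ (tr_le₂ U h h') (tr_le₃ U h h')
  have e3 := htr i k (h.trans h') _ (tr_le₁ U h h') (tr_le₃ U h h')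
  rw [sub_add_eq_add_sub, sub_eq_zero]
  refine Rigid.ext b ((he k).res (b.preimage_mono (tr_le₃ U h h'))) ?_
  rw [← e3, e1, e2, smul_smul, rval_add, Units.val_mul, mul_comm]

/-- Every cocycle is the transition cocycle of rigid generators of a rigidified module. -/
theorem exists_of_cocycle (hU : ⨆ i, U i = ⊤) (c : (cech U).K 1 (relUnits b σ).obj)
    (hc : (cech U).δ 1 _ c = 0) :
    ∃ (R : RB σ) (e : ∀ i, Γ(R.L, b ⁻¹ᵁ U i)), (∀ i, Rigid R (e i)) ∧ Tr b σ U R e c := by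
  let V : ULift.{u} ι → Z.Opens := fun i => b ⁻¹ᵁ U i.down
  have hV : ⨆ i, V i = ⊤ := by
    rw [show (⨆ i, V i) = ⨆ i, b ⁻¹ᵁ U i from Equiv.ulift.iSup_congr fun _ => rfl,
      ← Scheme.Hom.preimage_iSup, hU]
    rfl
  let g : ∀ i j, Γ(Z, V i ⊓ V j) := fun i j =>
    (rval b σ (alt U c i.down j.down (U i.down ⊓ U j.down) inf_le_left inf_le_right) :
      Γ(Z, b ⁻¹ᵁ (U i.down ⊓ U j.down)))
  have hg : ∀ (i j : ULift.{u} ι) (T : W.Opens) (hi : T ≤ U i.down) (hj : T ≤ U j.down),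
      LocGen.ores (b.preimage_mono (le_inf hi hj)) (g i j) =
        (rval b σ (alt U c i.down j.down T hi hj) : Γ(Z, b ⁻¹ᵁ T)) := by
    intro i j T hi hj
    rw [← rs_alt U c (inf_le_left : U i.down ⊓ U j.down ≤ U i.down) inf_le_right (le_inf hi hj), rval_rs]
  obtain ⟨L, e, he, hge⟩ := LineCocycle.exists_of_cocycle V g (by
      intro i
      have h1 : (rval b σ (alt U c i.down i.down (U i.down ⊓ U i.down) inf_le_left inf_le_right) :
          Γ(Z, b ⁻¹ᵁ (U i.down ⊓ U i.down))) = 1 := by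
        rw [alt_self, rval_zero, Units.val_one]
      exact h1) (by
      intro i j k T hi hj hk
      have h1 : T ≤ b ⁻¹ᵁ (U i.down ⊓ U j.down ⊓ U k.down) := le_inf (le_inf hi hj) hk
      have key : (rval b σ (alt U c i.down k.down (U i.down ⊓ U j.down ⊓ U k.down)
          (inf_le_left.trans inf_le_left) inf_le_right) : Γ(Z, b ⁻¹ᵁ (U i.down ⊓ U j.down ⊓ U k.down))) =
          (rval b σ (alt U c i.down j.down (U i.down ⊓ U j.down ⊓ U k.down)
          (inf_le_left.trans inf_le_left) (inf_le_left.trans inf_le_right)) :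
            Γ(Z, b ⁻¹ᵁ (U i.down ⊓ U j.down ⊓ U k.down))) *
          (rval b σ (alt U c j.down k.down (U i.down ⊓ U j.down ⊓ U k.down)
          (inf_le_left.trans inf_le_right) inf_le_right) :
            Γ(Z, b ⁻¹ᵁ (U i.down ⊓ U j.down ⊓ U k.down))) := by
        rw [← Units.val_mul, ← rval_add, alt_add_alt U c hc]
      have key2 := congrArg (LocGen.ores h1) key
      rw [map_mul, ← hg i k, ← hg i j, ← hg j k, ores_ores, ores_ores, ores_ores] at key2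
      exact key2)
  have htr : ∀ (i j : ι) (T : W.Opens) (hi : T ≤ U i) (hj : T ≤ U j),
      LocGen.res L (b.preimage_mono hi) (e ⟨i⟩) =
      (rval b σ (alt U c i j T hi hj) : Γ(Z, b ⁻¹ᵁ T)) • LocGen.res L (b.preimage_mono hj) (e ⟨j⟩) := by
    intro i j T hi hj
    have hT : b ⁻¹ᵁ T ≤ V ⟨i⟩ ⊓ V ⟨j⟩ := b.preimage_mono (le_inf hi hj)
    have h1 := congrArg (LocGen.res L hT) (hge ⟨i⟩ ⟨j⟩)
    rw [res_smul, res_res, res_res] at h1
    exact h1.trans (congrArg (· • LocGen.res L (b.preimage_mono hj) (e ⟨j⟩)) (hg ⟨i⟩ ⟨j⟩ T hi hj))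
  obtain ⟨ρ, hρ⟩ := Fam.exists_of_gens (G := σ) (L' := Coh.structureModule Y) hV he
    (fun i => one (σ ⁻¹ᵁ V i)) (fun i => isGen_one _) (fun i j => by
      refine ⟨g i j, hge i j, ?_⟩
      rw [res_one, res_one]
      have h1 : σ.app (V i ⊓ V j) (g i j) = 1 := app_rval b σ (U := U i.down ⊓ U j.down) _
      rw [h1, one_smul])
  refine ⟨⟨L, isInvertible_of_gens hV he, ρ⟩, fun i => e ⟨i⟩, fun i => ⟨he ⟨i⟩, hρ ⟨i⟩⟩, ?_⟩
  intro i j h T hi hj
  have h1 := htr i j T hi hj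
  rw [alt_lt U c h] at h1
  exact h1

theorem Tr.unique {R : RB σ} {e : ∀ i, Γ(R.L, b ⁻¹ᵁ U i)} (he : ∀ i, Rigid R (e i))
    {c c' : (cech U).K 1 (relUnits b σ).obj} (h : Tr b σ U R e c) (h' : Tr b σ U R e c') : c = c' := by
  apply K1_ext
  intro i j hij
  have h1 := h i j hij _ (le_pr_left U hij) (le_pr_right U hij)
  have h2 := h' i j hij _ (le_pr_left U hij) (le_pr_right U hij)
  rw [rs_self] at h1 h2
  exact Rigid.ext b ((he j).res (b.preimage_mono (le_pr_right U hij))) (h1.symm.trans h2)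

/-- Two families of rigid generators differ by a `0`-cochain. -/
theorem exists_rescale {R : RB σ} {e e' : ∀ i, Γ(R.L, b ⁻¹ᵁ U i)} (he : ∀ i, Rigid R (e i))
    (he' : ∀ i, Rigid R (e' i)) : ∃ x : (cech U).K 0 (relUnits b σ).obj,
    ∀ i, e' i = (rval b σ (rs (relUnits b σ).obj (le_sg U le_rfl) (x (sg i))) : Γ(Z, b ⁻¹ᵁ U i)) • e i := by
  choose y hy using fun i => Rigid.exists_unit b (he i) (he' i)
  have key : ∀ B : BB (ι := ι) NE 1 0, ∃ u : Γs (relUnits b σ) (B.1.inf U), ∀ (i : ι) (_ : B = sg i)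
      (hi : U i ≤ B.1.inf U), rs (relUnits b σ).obj hi u = y i := by
    intro B
    obtain ⟨i, rfl⟩ := exists_sg B
    refine ⟨rs (relUnits b σ).obj (sg_le U i) (y i), fun j hj hi => ?_⟩
    have : i = j := Finset.singleton_injective (congrArg Subtype.val hj)
    subst this
    rw [rs_rs, rs_self]
  choose x hx using key
  refine ⟨x, fun i => ?_⟩
  rw [hx (sg i) i rfl]
  exact hy i

/-- Rescaling rigid generators. -/
theorem Tr.rescale {R : RB σ} {e e' : ∀ i, Γ(R.L, b ⁻¹ᵁ U i)} {c : (cech U).K 1 (relUnits b σ).obj}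
    (h : Tr b σ U R e c) (x : (cech U).K 0 (relUnits b σ).obj)
    (he' : ∀ i, e' i = (rval b σ (rs (relUnits b σ).obj (le_sg U le_rfl) (x (sg i))) :
      Γ(Z, b ⁻¹ᵁ U i)) • e i) :
    Tr b σ U R e' (c - (cech U).δ 0 _ x) := by
  intro i j hij T hi hj
  have h0 : ∀ (a : ι) (ha : T ≤ U a), LocGen.res R.L (b.preimage_mono ha) (e' a) =
      (rval b σ (rs (relUnits b σ).obj (le_sg U ha) (x (sg a))) : Γ(Z, b ⁻¹ᵁ T)) •
        LocGen.res R.L (b.preimage_mono ha) (e a) := by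
    intro a ha
    rw [he' a, res_smul, ← rval_rs b σ ha, rs_rs]
  have e1 : rs (relUnits b σ).obj (le_pr U hij hi hj) ((c - (cech U).δ 0 _ x) (pr i j hij)) =
      rs (relUnits b σ).obj (le_pr U hij hi hj) (c (pr i j hij)) -
      rs (relUnits b σ).obj (le_pr U hij hi hj) ((cech U).δ 0 _ x (pr i j hij)) :=
    map_sub (rs (relUnits b σ).obj (le_pr U hij hi hj)) _ _
  rw [h0 i hi, h0 j hj, h i j hij T hi hj, e1, δ_zero, map_sub, rs_rs, rs_rs, smul_smul, smul_smul,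
    rval_sub, rval_sub]
  congr 1
  rw [← Units.val_mul, ← Units.val_mul]
  congr 1
  simp only [mul_inv_rev, inv_inv]
  rw [mul_comm (rval b σ (rs (relUnits b σ).obj (le_sg U hi) (x (sg i)))), mul_assoc, mul_assoc,
    inv_mul_cancel, mul_one]

end Tr

section PairHom

variable {W Z₁ Z₂ Y₁ Y₂ : Scheme.{u}} {b₁ : Z₁ ⟶ W} {σ₁ : Y₁ ⟶ Z₁} {b₂ : Z₂ ⟶ W} {σ₂ : Y₂ ⟶ Z₂}
  (p : PairHom b₁ σ₁ b₂ σ₂) {ι : Type} [LinearOrder ι] [Fintype ι] {U : ι → W.Opens}

theorem rval_relMap_fn {V : W.Opens} (s : Γs (relUnits b₁ σ₁) V) :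
    (rval b₂ σ₂ (Groth.Agent.CohtopA.Sec.m (relMap p) V s) : Γ(Z₂, b₂ ⁻¹ᵁ V)) =
      fn p.h (le_of_comp p.w V) (rval b₁ σ₁ s : Γ(Z₁, b₁ ⁻¹ᵁ V)) := by
  rw [rval_relMap, appU_val]
  rfl

/-- Functoriality of transition cocycles. -/
theorem Tr.arr {R : RB σ₁} {R' : RB σ₂} (A : Arr p.sq.symm R R') {e : ∀ i, Γ(R.L, b₁ ⁻¹ᵁ U i)}
    {c : (cech U).K 1 (relUnits b₁ σ₁).obj} (h : Tr b₁ σ₁ U R e c) :
    Tr b₂ σ₂ U R' (fun i => A.θ.on (le_of_comp p.w (U i)) (e i))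
      ((cech U).Kmap 1 (relMap p).hom c) := by
  intro i j hij T hi hj
  have e1 : rs (relUnits b₂ σ₂).obj (le_pr U hij hi hj)
      ((cech U).Kmap 1 (relMap p).hom c (pr i j hij)) =
      Groth.Agent.CohtopA.Sec.m (relMap p) T (rs (relUnits b₁ σ₁).obj (le_pr U hij hi hj)
        (c (pr i j hij))) :=
    (Groth.Agent.CohtopA.Sec.m_r (relMap p) (le_pr U hij hi hj) (c (pr i j hij))).symm
  rw [e1, rval_relMap_fn, Fam.res_on, Fam.res_on]
  have h1 := congrArg (A.θ.on (le_of_comp p.w T)) (h i j hij T hi hj)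
  rw [Fam.on_smul, Fam.on_res, Fam.on_res] at h1
  exact h1

theorem Rigid.arr_on {R : RB σ₁} {R' : RB σ₂} (A : Arr p.sq.symm R R') {V : W.Opens}
    {e : Γ(R.L, b₁ ⁻¹ᵁ V)} (he : Rigid R e) : Rigid R' (A.θ.on (le_of_comp p.w V) e) :=
  (he.arr A).res _

theorem ge_of_comp {h : Z₂ ⟶ Z₁} {b₁ : Z₁ ⟶ W} {b₂ : Z₂ ⟶ W} (w : h ≫ b₁ = b₂) (V : W.Opens) :
    h ⁻¹ᵁ (b₁ ⁻¹ᵁ V) ≤ b₂ ⁻¹ᵁ V := by subst w; exact le_rfl

theorem iSup_preimage {Z : Scheme.{u}} (b : Z ⟶ W) {ι : Type*} {U : ι → W.Opens} (hU : ⨆ i, U i = ⊤) :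
    ⨆ i, b ⁻¹ᵁ U i = ⊤ := by
  rw [← Scheme.Hom.preimage_iSup, hU]
  rfl

/-- Rigidified modules with corresponding transition cocycles are related by an arrow. -/
theorem exists_arr_of_tr (hU : ⨆ i, U i = ⊤) {R : RB σ₁} {R' : RB σ₂} {e : ∀ i, Γ(R.L, b₁ ⁻¹ᵁ U i)}
    (he : ∀ i, Rigid R (e i)) {e' : ∀ i, Γ(R'.L, b₂ ⁻¹ᵁ U i)} (he' : ∀ i, Rigid R' (e' i))
    {c : (cech U).K 1 (relUnits b₁ σ₁).obj} (h : Tr b₁ σ₁ U R e c)
    (h' : Tr b₂ σ₂ U R' e' ((cech U).Kmap 1 (relMap p).hom c)) : Nonempty (Arr p.sq.symm R R') := by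
  have hU₁ := iSup_preimage b₁ hU
  obtain ⟨θ, hθ⟩ := Fam.exists_of_gens (G := p.h) (L := R.L) (L' := R'.L) hU₁ (fun i => (he i).1)
    (fun i => LocGen.res R'.L (ge_of_comp p.w (U i)) (e' i))
    (fun i => (he' i).1.res _) (fun i j => by
      refine ⟨(rval b₁ σ₁ (alt U c i j (U i ⊓ U j) inf_le_left inf_le_right)).val,
        h.alt i j (U i ⊓ U j) inf_le_left inf_le_right, ?_⟩
      have h1 := congrArg (LocGen.res R'.L (ge_of_comp p.w (U i ⊓ U j)))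
        (h'.alt i j (U i ⊓ U j) inf_le_left inf_le_right)
      rw [res_smul, res_res, res_res] at h1
      have e1 : alt U ((cech U).Kmap 1 (relMap p).hom c) i j (U i ⊓ U j) inf_le_left inf_le_right =
          Groth.Agent.CohtopA.Sec.m (relMap p) (U i ⊓ U j)
            (alt U c i j (U i ⊓ U j) inf_le_left inf_le_right) := by
        rcases lt_trichotomy i j with hij | rfl | hij
        · rw [alt_lt U _ hij, alt_lt U _ hij]
          exact (Groth.Agent.CohtopA.Sec.m_r (relMap p) _ _).symm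
        · rw [alt_self, alt_self, map_zero]
        · rw [alt_gt U _ hij, alt_gt U _ hij, map_neg]
          exact congrArg Neg.neg (Groth.Agent.CohtopA.Sec.m_r (relMap p) _ _).symm
      rw [e1, rval_relMap_fn, fn_apply, ores_ores, ores_refl] at h1
      have e2 := res_res R'.L (ge_of_comp p.w (U i)) (p.h.preimage_mono (b₁.preimage_mono
        (inf_le_left : U i ⊓ U j ≤ U i))) (e' i)
      have e3 := res_res R'.L (ge_of_comp p.w (U j)) (p.h.preimage_mono (b₁.preimage_mono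
        (inf_le_right : U i ⊓ U j ≤ U j))) (e' j)
      exact e2.trans (h1.trans (congrArg _ e3.symm)))
  refine ⟨⟨θ, Fam.ext_of_gens hU₁ (fun i => (he i).1) fun i => ?_⟩⟩
  have e1 : R'.ρ.map (θ.map (e i)) = one (σ₂ ⁻¹ᵁ p.h ⁻¹ᵁ b₁ ⁻¹ᵁ U i) := by
    rw [hθ, R'.ρ.res, (he' i).2, res_one]
  rw [Fam.cast_map, Fam.comp_map, e1]
  refine (res_one _).trans ?_
  rw [Fam.comp_map, (he i).2, Fam.can_map]
  change (1 : Γ(Y₂, p.k ⁻¹ᵁ σ₁ ⁻¹ᵁ b₁ ⁻¹ᵁ U i)) = p.k.app _ (1 : Γ(Y₁, σ₁ ⁻¹ᵁ b₁ ⁻¹ᵁ U i))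
  rw [map_one]

end PairHom

section Classify

variable {W Z Y : Scheme.{u}} {b : Z ⟶ W} {σ : Y ⟶ Z} {ι : Type} [LinearOrder ι] [Fintype ι]
  {U : ι → W.Opens}

/-- The identity of pairs. -/
def idPair (b : Z ⟶ W) (σ : Y ⟶ Z) : PairHom b σ b σ where
  h := 𝟙 Z
  k := 𝟙 Y
  w := Category.id_comp b
  sq := by rw [Category.id_comp, Category.comp_id]

theorem relMap_idPair : relMap (idPair b σ) = 𝟙 _ := by
  apply hom_ext_m
  intro V s
  apply rval_injective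
  apply Units.ext
  rw [rval_relMap_fn]
  change LocGen.ores _ (rval b σ s : Γ(Z, b ⁻¹ᵁ V)) = _
  rw [ores_refl]
  rfl

theorem Kmap_idPair (c : (cech U).K 1 (relUnits b σ).obj) :
    (cech U).Kmap 1 (relMap (idPair b σ)).hom c = c := by
  rw [relMap_idPair]
  rfl

/-- **Classification of rigidified modules by cocycles**. -/
theorem rel_iff (hU : ⨆ i, U i = ⊤) {R R' : RB σ} {e : ∀ i, Γ(R.L, b ⁻¹ᵁ U i)}
    (he : ∀ i, Rigid R (e i)) {e' : ∀ i, Γ(R'.L, b ⁻¹ᵁ U i)} (he' : ∀ i, Rigid R' (e' i))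
    {c c' : (cech U).K 1 (relUnits b σ).obj} (h : Tr b σ U R e c) (h' : Tr b σ U R' e' c') :
    Rel R R' ↔ ∃ x : (cech U).K 0 (relUnits b σ).obj, c' = c - (cech U).δ 0 _ x := by
  constructor
  · rintro ⟨A⟩
    have h1 := Tr.arr (idPair b σ) A h
    rw [Kmap_idPair] at h1
    obtain ⟨x, hx⟩ := exists_rescale (fun i => (he i).arr_on (idPair b σ) A) he'
    exact ⟨x, h'.unique he' (h1.rescale x hx)⟩
  · rintro ⟨x, rfl⟩
    have h1 := h.rescale x (fun i => rfl)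
    refine exists_arr_of_tr (idPair b σ) hU (fun i => (he i).smul b _) he' h1 ?_
    rw [Kmap_idPair]
    exact h'

end Classify

end Groth.Agent.Pic13.H958.Coc
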