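import Groth.Agent.VarietyB.FlatH0
import Groth.Agent.Ega2.QCohLocal
import Groth.Agent.Fga.SqZero
import Groth.Agent.Pic13.H958.Coc

/-!
# Lifting rigid generators on affine opens

`Quad i σ σ₀ k`: the cartesian square of closed immersions `Y₀ ⟶ Z₀`, `Y ⟶ Z` where `Z₀ ⟶ Z` has square-zero ideal.
`exists_rigid_lift`: over an affine open of `Z` every rigid generator of the restriction of a rigidified
module to `(Z₀, Y₀)` lifts to a rigid generator.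
-/

set_option autoImplicit false
set_option linter.unusedSectionVars false
universe u

open CategoryTheory CategoryTheory.Limits AlgebraicGeometry TopologicalSpace Opposite TensorProduct

namespace Groth.Agent.Pic13.H958.AffLift

open Groth.Agent.Fdesc Groth.Agent.Fdesc.LocGen Groth.Agent.Picfga Groth.Agent.Picfga.LineHom
  Groth.Agent.Picfga.LineDescent Groth.Agent.Picfga.LineFam
open Groth.Agent
open Groth.Agent.CohtopA.Sec (Γs)
open Groth.Agent.Pic13.H958.RelUnits Groth.Agent.Pic13.H602.Rig Groth.Agent.Pic13.H958.Coc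

section Alg

variable {R S : Type u} [CommRing R] [CommRing S] [Algebra R S] {M N : Type u} [AddCommGroup M]
  [Module R M] [AddCommGroup N] [Module R N] [Module S N] [IsScalarTower R S N]

theorem surjective_of_isBaseChange (hS : Function.Surjective (algebraMap R S)) {f : M →ₗ[R] N}
    (hf : IsBaseChange S f) : Function.Surjective f := by
  intro n
  obtain ⟨x, rfl⟩ := hf.equiv.surjective n
  induction x using TensorProduct.induction_on with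
  | zero => exact ⟨0, by rw [map_zero, map_zero]⟩
  | tmul s m =>
    obtain ⟨r, rfl⟩ := hS s
    exact ⟨r • m, by rw [map_smul, hf.equiv_tmul, algebraMap_smul]⟩
  | add x y hx hy =>
    obtain ⟨a, ha⟩ := hx
    obtain ⟨b, hb⟩ := hy
    exact ⟨a + b, by rw [map_add, map_add, ha, hb]⟩

theorem mem_ker_smul_of_isBaseChange (hS : Function.Surjective (algebraMap R S)) {f : M →ₗ[R] N}
    (hf : IsBaseChange S f) {m : M} (hm : f m = 0) :
    m ∈ RingHom.ker (algebraMap R S) • (⊤ : Submodule R M) := by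
  have h1 : (1 : S) ⊗ₜ[R] m = 0 := by
    apply hf.equiv.injective
    rw [hf.equiv_tmul, hm, smul_zero, map_zero]
  have hex : Function.Exact (RingHom.ker (algebraMap R S)).subtype (Algebra.linearMap R S) := by
    rw [LinearMap.exact_iff]
    ext x
    rw [Submodule.range_subtype]
    rfl
  have h2 := rTensor_exact M hex hS
  have h3 : (Algebra.linearMap R S).rTensor M ((1 : R) ⊗ₜ m) = 0 := by
    rw [LinearMap.rTensor_tmul, Algebra.linearMap_apply, map_one, h1]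
  obtain ⟨y, hy⟩ := (h2 _).1 h3
  have key : ∀ y : RingHom.ker (algebraMap R S) ⊗[R] M,
      TensorProduct.lid R M ((RingHom.ker (algebraMap R S)).subtype.rTensor M y) ∈
        RingHom.ker (algebraMap R S) • (⊤ : Submodule R M) := by
    intro y
    induction y using TensorProduct.induction_on with
    | zero => rw [map_zero, map_zero]; exact zero_mem _
    | tmul r m =>
      rw [LinearMap.rTensor_tmul, TensorProduct.lid_tmul]
      exact Submodule.smul_mem_smul r.2 trivial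
    | add x y hx hy => rw [map_add, map_add]; exact add_mem hx hy
  have h4 := key y
  rw [hy, TensorProduct.lid_tmul, one_smul] at h4
  exact h4

end Alg

section Closed

variable {Z Z₀ : Scheme.{u}} (i : Z₀ ⟶ Z) [IsClosedImmersion i] {V : Z.Opens} (hV : IsAffineOpen V)

include hV in
theorem pullSec_aux (L : Z.Modules) (hL : Coh.IsQCoh L) :
    Function.Surjective (fun s : Γ(L, V) => (pullSec i s : Γ((Scheme.Modules.pullback i).obj L, i ⁻¹ᵁ V))) ∧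
    ∀ s : Γ(L, V), (pullSec i s : Γ((Scheme.Modules.pullback i).obj L, i ⁻¹ᵁ V)) = 0 →
      s ∈ RingHom.ker (i.app V).hom • (⊤ : Submodule Γ(Z, V) Γ(L, V)) := by
  have e0 : i.appLE V (i ⁻¹ᵁ V) le_rfl = i.app V := Scheme.Hom.appLE_eq_app i
  let j1 : Algebra Γ(Z, V) Γ(Z₀, i ⁻¹ᵁ V) := (i.appLE V (i ⁻¹ᵁ V) le_rfl).hom.toAlgebra
  let j2 := VarietyB.PullSec.secModule i L (le_refl (i ⁻¹ᵁ V))
  have j3 : IsScalarTower Γ(Z, V) Γ(Z₀, i ⁻¹ᵁ V) Γ((Scheme.Modules.pullback i).obj L, i ⁻¹ᵁ V) :=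
    ⟨fun a b c => by rw [Algebra.smul_def, mul_smul]; rfl⟩
  have h1 := VarietyB.PullSec.isBaseChange_secₗ i L (le_refl (i ⁻¹ᵁ V)) hL hV (hV.preimage i)
  have hS : Function.Surjective (algebraMap Γ(Z, V) Γ(Z₀, i ⁻¹ᵁ V)) := by
    change Function.Surjective (i.appLE V (i ⁻¹ᵁ V) le_rfl)
    rw [e0]
    exact i.app_surjective V hV
  have h2 : ∀ s : Γ(L, V), VarietyB.PullSec.secₗ i L (le_refl (i ⁻¹ᵁ V)) s = pullSec i s := by
    intro s
    change ((Scheme.Modules.pullback i).obj L).presheaf.map (homOfLE (le_refl (i ⁻¹ᵁ V))).op _ = _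
    exact Fdesc.QCohStalk.map_self _ _ _
  have hker : RingHom.ker (algebraMap Γ(Z, V) Γ(Z₀, i ⁻¹ᵁ V)) = RingHom.ker (i.app V).hom := by
    change RingHom.ker (i.appLE V (i ⁻¹ᵁ V) le_rfl).hom = _
    rw [e0]
  constructor
  · intro t
    obtain ⟨s, hs⟩ := surjective_of_isBaseChange hS h1 t
    exact ⟨s, (h2 s).symm.trans hs⟩
  · intro s hs
    rw [← hker]
    exact mem_ker_smul_of_isBaseChange hS h1 ((h2 s).trans hs)

variable {i} {L : Z.Modules} {L' : Z₀.Modules} (hL : PicF.IsInvertible L) (θ : Fam i L L')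

include hV hL in
theorem fam_surj (t : Γ(L', i ⁻¹ᵁ V)) : ∃ s : Γ(L, V), θ.map s = t := by
  obtain ⟨ψ, rfl⟩ := Fam.exists_ofIso hL θ
  obtain ⟨s, hs⟩ := (pullSec_aux i hV L (Ega2.QCohLocal.isQCoh_of_isInvertible hL)).1 (ψ.inv.app _ t)
  refine ⟨s, ?_⟩
  have hs' : pullSec i s = ψ.inv.app _ t := hs
  rw [Fam.ofIso_map, hs']
  exact congrArg (fun φ : L' ⟶ L' => φ.app (i ⁻¹ᵁ V) t) ψ.inv_hom_id

include hV hL in
theorem fam_ker (s : Γ(L, V)) (hs : θ.map s = 0) :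
    s ∈ RingHom.ker (i.app V).hom • (⊤ : Submodule Γ(Z, V) Γ(L, V)) := by
  obtain ⟨ψ, rfl⟩ := Fam.exists_ofIso hL θ
  refine (pullSec_aux i hV L (Ega2.QCohLocal.isQCoh_of_isInvertible hL)).2 s ?_
  rw [Fam.ofIso_map] at hs
  have h1 := congrArg (ψ.inv.app (i ⁻¹ᵁ V)) hs
  rw [map_zero] at h1
  exact (congrArg (fun φ : (Scheme.Modules.pullback i).obj L ⟶ _ => φ.app (i ⁻¹ᵁ V) (pullSec i s))
    ψ.hom_inv_id).symm.trans h1

/-- The additive map underlying a family. -/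
theorem Fam_map_add {Z Z' : Scheme.{u}} {G : Z' ⟶ Z} {L : Z.Modules} {L' : Z'.Modules}
    (hL : PicF.IsInvertible L) (θ : Fam G L L') {V : Z.Opens} (s t : Γ(L, V)) :
    θ.map (s + t) = θ.map s + θ.map t := by
  obtain ⟨ψ, rfl⟩ := Fam.exists_ofIso hL θ
  rw [Fam.ofIso_map, Fam.ofIso_map, Fam.ofIso_map, pullSec_add, map_add]

end Closed

/-- The cartesian square of closed immersions, `i` of square zero. -/
structure Quad {Z Z₀ Y Y₀ : Scheme.{u}} (i : Z₀ ⟶ Z) (σ : Y ⟶ Z) (σ₀ : Y₀ ⟶ Z₀) (k : Y₀ ⟶ Y) : Prop where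
  pb : IsPullback k σ₀ σ i
  ci : IsClosedImmersion i
  cσ : IsClosedImmersion σ
  nil : ∀ {V : Z.Opens} (a a' : Γ(Z, V)), i.app V a = 0 → i.app V a' = 0 → a * a' = 0

namespace Quad

variable {Z Z₀ Y Y₀ : Scheme.{u}} {i : Z₀ ⟶ Z} {σ : Y ⟶ Z} {σ₀ : Y₀ ⟶ Z₀} {k : Y₀ ⟶ Y}
  (q : Quad i σ σ₀ k)

include q in
theorem exists_decomp {V : Z.Opens} (hV : IsAffineOpen V) (a : Γ(Z, V))
    (ha : σ₀.app (i ⁻¹ᵁ V) (i.app V a) = 0) :
    ∃ n j : Γ(Z, V), a = n + j ∧ i.app V n = 0 ∧ σ.app V j = 0 := by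
  have := q.ci
  have := q.cσ
  have hle : σ₀ ⁻¹ᵁ i ⁻¹ᵁ V ≤ k ⁻¹ᵁ σ ⁻¹ᵁ V := by
    change (σ₀ ≫ i) ⁻¹ᵁ V ≤ (k ≫ σ) ⁻¹ᵁ V
    rw [q.pb.w]
  have h1 := VarietyB.FlatH0.isPushout_appLE q.pb (US := V) (UT := i ⁻¹ᵁ V) le_rfl (UX := σ ⁻¹ᵁ V) le_rfl
    (UY := σ₀ ⁻¹ᵁ i ⁻¹ᵁ V) (le_antisymm (le_inf hle le_rfl) inf_le_right) hle le_rfl hV (hV.preimage i)
    (hV.preimage σ)
  let j1 := VarietyB.FlatH0.algOver i (le_refl (i ⁻¹ᵁ V))
  let j2 := VarietyB.FlatH0.algOver σ (le_refl (σ ⁻¹ᵁ V))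
  let j3 := VarietyB.FlatH0.algOver k hle
  let j4 := VarietyB.FlatH0.algOver σ₀ (le_refl (σ₀ ⁻¹ᵁ i ⁻¹ᵁ V))
  let j5 : Algebra Γ(Z, V) Γ(Y₀, σ₀ ⁻¹ᵁ i ⁻¹ᵁ V) :=
    ((k.appLE (σ ⁻¹ᵁ V) (σ₀ ⁻¹ᵁ i ⁻¹ᵁ V) hle).hom.comp (σ.appLE V (σ ⁻¹ᵁ V) le_rfl).hom).toAlgebra
  have j6 : IsScalarTower Γ(Z, V) Γ(Y, σ ⁻¹ᵁ V) Γ(Y₀, σ₀ ⁻¹ᵁ i ⁻¹ᵁ V) :=
    IsScalarTower.of_algebraMap_eq (fun _ => rfl)
  have comm : ∀ a : Γ(Z, V), k.appLE (σ ⁻¹ᵁ V) (σ₀ ⁻¹ᵁ i ⁻¹ᵁ V) hle (σ.appLE V (σ ⁻¹ᵁ V) le_rfl a) =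
      σ₀.appLE (i ⁻¹ᵁ V) (σ₀ ⁻¹ᵁ i ⁻¹ᵁ V) le_rfl (i.appLE V (i ⁻¹ᵁ V) le_rfl a) := by
    intro a
    rw [← CommRingCat.comp_apply, ← CommRingCat.comp_apply, Scheme.Hom.appLE_comp_appLE,
          Scheme.Hom.appLE_comp_appLE]
    simp only [q.pb.w]
  have j7 : IsScalarTower Γ(Z, V) Γ(Z₀, i ⁻¹ᵁ V) Γ(Y₀, σ₀ ⁻¹ᵁ i ⁻¹ᵁ V) :=
    IsScalarTower.of_algebraMap_eq (fun a => comm a)
  have ei : i.appLE V (i ⁻¹ᵁ V) le_rfl = i.app V := Scheme.Hom.appLE_eq_app i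
  have eσ : σ.appLE V (σ ⁻¹ᵁ V) le_rfl = σ.app V := Scheme.Hom.appLE_eq_app σ
  have eσ₀ : σ₀.appLE (i ⁻¹ᵁ V) (σ₀ ⁻¹ᵁ i ⁻¹ᵁ V) le_rfl = σ₀.app (i ⁻¹ᵁ V) := Scheme.Hom.appLE_eq_app σ₀
  have hS : Function.Surjective (algebraMap Γ(Z, V) Γ(Z₀, i ⁻¹ᵁ V)) := by
    change Function.Surjective (i.appLE V (i ⁻¹ᵁ V) le_rfl)
    rw [ei]
    exact i.app_surjective V hV
  have h2 := mem_ker_smul_of_isBaseChange hS h1.out (m := σ.app V a) (by
    change k.appLE (σ ⁻¹ᵁ V) (σ₀ ⁻¹ᵁ i ⁻¹ᵁ V) hle (σ.app V a) = 0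
    rw [← eσ, comm, eσ₀, ei, ha])
  have key : ∀ m ∈ RingHom.ker (algebraMap Γ(Z, V) Γ(Z₀, i ⁻¹ᵁ V)) • (⊤ : Submodule Γ(Z, V) Γ(Y, σ ⁻¹ᵁ V)),
      ∃ n : Γ(Z, V), i.app V n = 0 ∧ σ.app V n = m := by
    intro m hm
    refine Submodule.smul_induction_on hm ?_ ?_
    · intro r hr y _
      obtain ⟨z, rfl⟩ := σ.app_surjective V hV y
      refine ⟨r * z, ?_, ?_⟩
      · rw [map_mul]
        have : i.app V r = 0 := by
          rw [← ei]
          exact hr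
        rw [this, zero_mul]
      · rw [map_mul, Algebra.smul_def]
        congr 1
        change _ = σ.appLE V (σ ⁻¹ᵁ V) le_rfl r
        rw [eσ]
    · rintro x y ⟨n, hn, rfl⟩ ⟨n', hn', rfl⟩
      exact ⟨n + n', by rw [map_add, hn, hn', add_zero], by rw [map_add]⟩
  obtain ⟨n, hn, hn'⟩ := key _ h2
  exact ⟨n, a - n, (add_sub_cancel n a).symm, hn, by rw [map_sub, hn', sub_self]⟩

include q in
theorem isUnit_of_app {V : Z.Opens} (hV : IsAffineOpen V) {u : Γ(Z, V)} (hu : IsUnit (i.app V u)) :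
    IsUnit u := by
  have := q.ci
  obtain ⟨v, hv⟩ := hu.exists_right_inv
  obtain ⟨v, rfl⟩ := i.app_surjective V hV v
  have h1 : i.app V (u * v - 1) = 0 := by rw [map_sub, map_mul, hv, map_one, sub_self]
  have h2 := q.nil _ _ h1 h1
  refine IsUnit.of_mul_eq_one (v * (2 - u * v)) ?_
  linear_combination -h2

/-- The pair `(Z₀, Y₀)` as a pair over `W`. -/
def pair {W : Scheme.{u}} (b : Z ⟶ W) (q : Quad i σ σ₀ k) : PairHom b σ (i ≫ b) σ₀ :=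
  ⟨i, k, rfl, q.pb.w⟩

/-- Units lift over affine opens. -/
theorem exists_unit_lift {W : Scheme.{u}} (b : Z ⟶ W) {U : W.Opens} (hU : IsAffineOpen (b ⁻¹ᵁ U))
    (s₀ : Γs (relUnits (i ≫ b) σ₀) U) :
    ∃ s : Γs (relUnits b σ) U, CohtopA.Sec.m (relMap (q.pair b)) U s = s₀ := by
  have := q.ci
  let u₀ : Γ(Z₀, i ⁻¹ᵁ b ⁻¹ᵁ U)ˣ := rval (i ≫ b) σ₀ s₀
  obtain ⟨a, ha⟩ := i.app_surjective (b ⁻¹ᵁ U) hU u₀
  have h1 : σ₀.app (i ⁻¹ᵁ b ⁻¹ᵁ U) (u₀ : Γ(Z₀, i ⁻¹ᵁ b ⁻¹ᵁ U)) = 1 := app_rval (i ≫ b) σ₀ s₀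
  obtain ⟨n, j, hnj, hn, hj⟩ := q.exists_decomp hU (a - 1) (by
    rw [map_sub, map_sub, map_one, map_one, ha, h1, sub_self])
  have hu1 : i.app (b ⁻¹ᵁ U) (a - n) = u₀ := by rw [map_sub, ha, hn, sub_zero]
  have hu2 : σ.app (b ⁻¹ᵁ U) (a - n) = 1 := by
    have e : a - n = 1 + j := by linear_combination hnj
    rw [e, map_add, map_one, hj, add_zero]
  have hu : IsUnit (a - n) := q.isUnit_of_app hU (by rw [hu1]; exact u₀.isUnit)
  refine ⟨rmk b σ hu.unit hu2, ?_⟩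
  apply rval_injective
  apply Units.ext
  rw [rval_relMap_fn, rval_rmk, fn_apply]
  refine Eq.trans ?_ hu1
  exact ores_refl _

/-- **Rigid generators lift over affine opens.** -/
theorem exists_rigid_lift {V : Z.Opens} (hV : IsAffineOpen V) {R : RB σ} {R₀ : RB σ₀}
    (A : Arr q.pb.w.symm R R₀) {e₀ : Γ(R₀.L, i ⁻¹ᵁ V)} (he₀ : Rigid R₀ e₀) :
    ∃ e : Γ(R.L, V), Rigid R e ∧ A.θ.map e = e₀ := by
  have := q.ci
  have := q.cσ
  obtain ⟨m₀, hm₀⟩ := fam_surj hV R.inv A.θ e₀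
  obtain ⟨m₁, hm₁⟩ := fam_surj hV R.inv R.ρ (one _)
  have hinv₀ : PicF.IsInvertible R₀.L := R₀.inv
  -- the difference vanishes on `Y₀`
  have h1 : (A.θ.comp R₀.ρ).map (m₀ - m₁) = 0 := by
    have e1 := Fam_map_add R.inv (A.θ.comp R₀.ρ) (m₀ - m₁) m₁
    rw [sub_add_cancel] at e1
    have e2 : (A.θ.comp R₀.ρ).map m₀ = one _ := by
      rw [Fam.comp_map, hm₀, he₀.2]
      rfl
    have e3 : (A.θ.comp R₀.ρ).map m₁ = one _ := by
      have h3 := IsArr.map_eq q.pb.w.symm A.isArr m₁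
      rw [hm₁, Fam.can_map, one_eq_ofFun, AddEquiv.symm_apply_apply, map_one] at h3
      have hle : σ₀ ⁻¹ᵁ i ⁻¹ᵁ V ≤ k ⁻¹ᵁ σ ⁻¹ᵁ V := by
        change (σ₀ ≫ i) ⁻¹ᵁ V ≤ (k ≫ σ) ⁻¹ᵁ V
        rw [q.pb.w]
      have h4 := congrArg (LocGen.res (Coh.structureModule Y₀) hle) h3
      rw [res_res, res_refl] at h4
      exact h4.trans (res_one _)
    rw [e2, e3] at e1
    exact right_eq_add.1 e1
  have hpb := q.pb
  have hcl : IsClosedImmersion (σ₀ ≫ i) := by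
    rw [← q.pb.w]
    have : IsClosedImmersion k := MorphismProperty.of_isPullback q.pb.flip q.ci
    infer_instance
  have h2 := fam_ker hV R.inv (A.θ.comp R₀.ρ) (m₀ - m₁) h1
  -- decompose
  have key : ∀ m ∈ RingHom.ker ((σ₀ ≫ i).app V).hom • (⊤ : Submodule Γ(Z, V) Γ(R.L, V)),
      ∃ n j : Γ(R.L, V), m = n + j ∧ A.θ.map n = 0 ∧ R.ρ.map j = 0 := by
    intro m hm
    have z1 : A.θ.map (0 : Γ(R.L, V)) = 0 := by
      have := Fam_map_add R.inv A.θ (0 : Γ(R.L, V)) 0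
      rw [add_zero] at this
      exact left_eq_add.1 this
    have z2 : R.ρ.map (0 : Γ(R.L, V)) = 0 := by
      have := Fam_map_add R.inv R.ρ (0 : Γ(R.L, V)) 0
      rw [add_zero] at this
      exact left_eq_add.1 this
    refine Submodule.smul_induction_on hm ?_ ?_
    · intro r hr y _
      obtain ⟨n, j, rfl, hn, hj⟩ := q.exists_decomp hV r hr
      exact ⟨n • y, j • y, add_smul _ _ _, by rw [A.θ.smul, hn, zero_smul],
        by rw [R.ρ.smul, hj, zero_smul]⟩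
    · rintro x y ⟨n, j, rfl, hn, hj⟩ ⟨n', j', rfl, hn', hj'⟩
      exact ⟨n + n', j + j', by abel, by rw [Fam_map_add R.inv, hn, hn', add_zero],
        by rw [Fam_map_add R.inv, hj, hj', add_zero]⟩
  obtain ⟨n, j, hnj, hn, hj⟩ := key _ h2
  have he1 : A.θ.map (m₁ + j) = e₀ := by
    have e : m₀ = (m₁ + j) + n := by
      rw [sub_eq_iff_eq_add] at hnj
      rw [hnj]; abel
    rw [← hm₀, e, Fam_map_add R.inv A.θ (m₁ + j) n, hn, add_zero]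
  have he2 : R.ρ.map (m₁ + j) = one _ := by rw [Fam_map_add R.inv, hm₁, hj, add_zero]
  refine ⟨m₁ + j, ⟨?_, he2⟩, he1⟩
  rw [isGen_iff_forall_exists]
  intro x hx
  obtain ⟨U', g, hxU', hg⟩ := (isInvertible_iff R.L).1 R.inv x
  obtain ⟨V', hxV', hV'⟩ := Fga.SqZero.exists_affine (U := V ⊓ U') (x := x) ⟨hx, hxU'⟩
  have hV1 : V'.1 ≤ V := hV'.trans inf_le_left
  have hV2 : V'.1 ≤ U' := hV'.trans inf_le_right
  refine ⟨V'.1, hV1, hxV', ?_⟩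
  obtain ⟨a, ha⟩ := exists_smul hg hV2 (LocGen.res R.L hV1 (m₁ + j))
  rw [← ha]
  refine (hg.res hV2).unit_smul (q.isUnit_of_app V'.2 ?_)
  have hg' := A.θ.gen (hg.res hV2)
  refine hg'.isUnit_of_smul ?_
  rw [← A.θ.smul, ha, A.θ.res, he1]
  exact he₀.1.res _

end Quad

end Groth.Agent.Pic13.H958.AffLift
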