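import Groth.Agent.Pic13.H958.KMod

/-!
# Base change of the cochains of `KP`

Two quads, over `Spec B` and `Spec B'`, the second one the base change of the first one, everything flat over `B`.
`bijective_cb_kS`: sections over affine opens; `bijective_cb_KS`: cochains for an affine covering.
-/

set_option autoImplicit false
set_option linter.unusedSectionVars false
universe u

open CategoryTheory CategoryTheory.Limits AlgebraicGeometry TopologicalSpace Opposite TensorProduct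

namespace Groth.Agent.Pic13.H958.KCBC

open Groth.Agent Groth.Agent.VarietyB.BCAlg Groth.Agent.Ega3B.KunnethAlg Groth.Agent.Ega3B.KunnethSec
open Groth.Agent.Fdesc Groth.Agent.Fdesc.LocGen Groth.Agent.Picfga Groth.Agent.Picfga.LineFam
open Groth.Agent.Pic13.H958.RelUnits Groth.Agent.Pic13.H958.AffLift Groth.Agent.Pic13.H958.Ord
open Groth.Agent.Pic13.H958.Kil Groth.Agent.Pic13.H958.KilBC Groth.Agent.Pic13.H958.KMod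
open Groth.Agent.Ega3B Cube CubeData CombRes CoefSys

section Lin

variable {B : Type u} [CommRing B]

theorem fn_toSec {Z Z' : Scheme.{u}} (g : Z' ⟶ Z) (a : Z ⟶ Spec (CommRingCat.of B))
    {a' : Z' ⟶ Spec (CommRingCat.of B)} (h : g ≫ a = a') {V : Z.Opens} {V' : Z'.Opens}
    (e : V' ≤ g ⁻¹ᵁ V) (r : B) : fn g e (toSec B a V r) = toSec B a' V' r := by
  subst h
  exact appLE_toSec B a g e r

/-- Pull back of functions as a linear map. -/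
noncomputable def fnL {Z Z' : Scheme.{u}} (g : Z' ⟶ Z) (a : Z ⟶ Spec (CommRingCat.of B))
    {a' : Z' ⟶ Spec (CommRingCat.of B)} (h : g ≫ a = a') {V : Z.Opens} {V' : Z'.Opens}
    (e : V' ≤ g ⁻¹ᵁ V) :
    letI := fnMod a V
    letI := fnMod a' V'
    Γ(Z, V) →ₗ[B] Γ(Z', V') :=
  letI := fnMod a V
  letI := fnMod a' V'
  { toFun := fn g e
    map_add' := map_add _
    map_smul' := fun r x => by
      change fn g e (toSec B a V r * x) = toSec B a' V' r * fn g e x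
      rw [map_mul, fn_toSec g a h] }

theorem flat_fn {Z : Scheme.{u}} (a : Z ⟶ Spec (CommRingCat.of B)) [Flat a] {V : Z.Opens}
    (hV : IsAffineOpen V) :
    letI := fnMod a V
    Module.Flat B Γ(Z, V) := by
  have h1 : (a.appLE ⊤ V le_top).hom.Flat := a.flat_appLE (isAffineOpen_top _) hV le_top
  have h2 : ((Scheme.ΓSpecIso (CommRingCat.of B)).inv.hom).Flat :=
    RingHom.Flat.of_bijective (ConcreteCategory.bijective_of_isIso (Scheme.ΓSpecIso (CommRingCat.of B)).inv)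
  have h3 : (toSec B a V).Flat := h2.comp h1
  exact h3

end Lin

section Sections

variable {B B' : Type u} [CommRing B] [CommRing B'] [Algebra B B']
  {W Z₁ Z₀₁ Y₁ Y₀₁ Z₂ Z₀₂ Y₂ Y₀₂ : Scheme.{u}} {i₁ : Z₀₁ ⟶ Z₁} {σ₁ : Y₁ ⟶ Z₁} {σ₀₁ : Y₀₁ ⟶ Z₀₁}
  {k₁ : Y₀₁ ⟶ Y₁} {i₂ : Z₀₂ ⟶ Z₂} {σ₂ : Y₂ ⟶ Z₂} {σ₀₂ : Y₀₂ ⟶ Z₀₂}
  {k₂ : Y₀₂ ⟶ Y₂} (q₁ : Quad i₁ σ₁ σ₀₁ k₁) {b₁ : Z₁ ⟶ W} {b₂ : Z₂ ⟶ W}
  (p : PairHom b₁ σ₁ b₂ σ₂) (p₀ : PairHom (i₁ ≫ b₁) σ₀₁ (i₂ ≫ b₂) σ₀₂) (hp : p₀.h ≫ i₁ = i₂ ≫ p.h)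
  {a₁ : Z₁ ⟶ Spec (CommRingCat.of B)} {a₂ : Z₂ ⟶ Spec (CommRingCat.of B')}
  (hw : p.h ≫ a₁ = a₂ ≫ sp B B')
  (H : IsPullback p.h a₂ a₁ (sp B B')) (H₀ : IsPullback p₀.h (i₂ ≫ a₂) (i₁ ≫ a₁) (sp B B'))
  (HY : IsPullback p.k (σ₂ ≫ a₂) (σ₁ ≫ a₁) (sp B B'))

include hw in
theorem fn_toSec' {V : Z₁.Opens} {V₂ : Z₂.Opens} (e : V₂ ≤ p.h ⁻¹ᵁ V) (r : B) :
    fn p.h e (toSec B a₁ V r) = toSec B' a₂ V₂ (algebraMap B B' r) := by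
  rw [fn_toSec p.h a₁ hw, toSec_comp]

/-- The map on sections of `KP`, semilinear. -/
noncomputable def kS (U : W.Opens) :
    letI := kM (b := b₁) (i := i₁) (σ := σ₁) a₁ U
    letI := kM (b := b₂) (i := i₂) (σ := σ₂) a₂ U
    (KP b₁ i₁ σ₁).obj (op U) →ₛₗ[algebraMap B B'] (KP b₂ i₂ σ₂).obj (op U) :=
  letI := kM (b := b₁) (i := i₁) (σ := σ₁) a₁ U
  letI := kM (b := b₂) (i := i₂) (σ := σ₂) a₂ U
  { toFun := kmap p p₀ hp U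
    map_add' := (kmap p p₀ hp U).map_add
    map_smul' := fun r x => by
      apply kval_injective
      change fn p.h (le_of_comp p.w U) (toSec B a₁ (b₁ ⁻¹ᵁ U) r * kval x) =
        toSec B' a₂ (b₂ ⁻¹ᵁ U) (algebraMap B B' r) * kval (kmap p p₀ hp U x)
      rw [map_mul, fn_toSec' p hw, kval_kmap] }

/-- The map on cochains. -/
noncomputable def KS {ι : Type} [LinearOrder ι] [Fintype ι] (U : ι → W.Opens) (n : ℕ) :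
    KC a₁ b₁ i₁ σ₁ U n →ₛₗ[algebraMap B B'] KC a₂ b₂ i₂ σ₂ U n :=
  letI : ∀ c : (cech U).B n, Module B ((KP b₁ i₁ σ₁).obj (op ((cech U).W n c))) := fun _ => kM a₁ _
  letI : ∀ c : (cech U).B n, Module B' ((KP b₂ i₂ σ₂).obj (op ((cech U).W n c))) := fun _ => kM a₂ _
  piS (fun c : (cech U).B n => kS p p₀ hp hw ((cech U).W n c))

theorem KS_apply {ι : Type} [LinearOrder ι] [Fintype ι] (U : ι → W.Opens) (n : ℕ) (x : KC a₁ b₁ i₁ σ₁ U n) :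
    KS p p₀ hp hw U n x = (cech U).Kmap n (kP p p₀ hp) x := rfl

theorem preimage_eq {Z₁ Z₂ W : Scheme.{u}} {h : Z₂ ⟶ Z₁} {b₁ : Z₁ ⟶ W} {b₂ : Z₂ ⟶ W} (w : h ≫ b₁ = b₂)
    (U : W.Opens) : b₂ ⁻¹ᵁ U = h ⁻¹ᵁ (b₁ ⁻¹ᵁ U) := by subst w; rfl

include q₁ H H₀ HY in
/-- **Base change of the sections of `KP` over affine opens**. -/
theorem bijective_cb_kS [Flat (i₁ ≫ a₁)] [Flat (σ₁ ≫ a₁)] [Flat (σ₀₁ ≫ i₁ ≫ a₁)] {U : W.Opens}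
    (hU : IsAffineOpen (b₁ ⁻¹ᵁ U)) :
    letI := kM (b := b₁) (i := i₁) (σ := σ₁) a₁ U
    letI := kM (b := b₂) (i := i₂) (σ := σ₂) a₂ U
    Function.Bijective (cb (kS p p₀ hp hw U)) := by
  have := q₁.ci
  have := q₁.cσ
  have hσ₀ : IsClosedImmersion σ₀₁ := MorphismProperty.of_isPullback q₁.pb q₁.cσ
  let V := b₁ ⁻¹ᵁ U
  let V₂ := b₂ ⁻¹ᵁ U
  have e : V₂ = p.h ⁻¹ᵁ V := preimage_eq p.w U
  have e₀ : i₂ ⁻¹ᵁ V₂ = p₀.h ⁻¹ᵁ (i₁ ⁻¹ᵁ V) := preimage_eq p₀.w U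
  have eY : σ₂ ⁻¹ᵁ V₂ = p.k ⁻¹ᵁ (σ₁ ⁻¹ᵁ V) := by
    change (σ₂ ≫ b₂) ⁻¹ᵁ U = (p.k ≫ σ₁ ≫ b₁) ⁻¹ᵁ U
    rw [← Category.assoc, p.sq, Category.assoc, p.w]
  have hle : σ₀₁ ⁻¹ᵁ i₁ ⁻¹ᵁ V ≤ k₁ ⁻¹ᵁ σ₁ ⁻¹ᵁ V := by
    change (σ₀₁ ≫ i₁) ⁻¹ᵁ V ≤ (k₁ ≫ σ₁) ⁻¹ᵁ V
    rw [q₁.pb.w]
  -- module structures
  let m1 := kM (b := b₁) (i := i₁) (σ := σ₁) a₁ U
  let m2 := kM (b := b₂) (i := i₂) (σ := σ₂) a₂ U
  let n1 := fnMod a₁ V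
  let n2 := fnMod (i₁ ≫ a₁) (i₁ ⁻¹ᵁ V)
  let n3 := fnMod (σ₁ ≫ a₁) (σ₁ ⁻¹ᵁ V)
  let n4 := fnMod (σ₀₁ ≫ i₁ ≫ a₁) (σ₀₁ ⁻¹ᵁ i₁ ⁻¹ᵁ V)
  let n5 := fnMod a₂ V₂
  let n6 := fnMod (i₂ ≫ a₂) (i₂ ⁻¹ᵁ V₂)
  let n7 := fnMod (σ₂ ≫ a₂) (σ₂ ⁻¹ᵁ V₂)
  have f2 : Module.Flat B Γ(Z₀₁, i₁ ⁻¹ᵁ V) := flat_fn (i₁ ≫ a₁) (hU.preimage i₁)
  have f3 : Module.Flat B Γ(Y₁, σ₁ ⁻¹ᵁ V) := flat_fn (σ₁ ≫ a₁) (hU.preimage σ₁)
  have f4 : Module.Flat B Γ(Y₀₁, σ₀₁ ⁻¹ᵁ i₁ ⁻¹ᵁ V) :=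
    flat_fn (σ₀₁ ≫ i₁ ≫ a₁) ((hU.preimage i₁).preimage σ₀₁)
  let f₀ : Γ(Z₁, V) →ₗ[B] Γ(Z₀₁, i₁ ⁻¹ᵁ V) := fnL i₁ a₁ rfl le_rfl
  let fY : Γ(Z₁, V) →ₗ[B] Γ(Y₁, σ₁ ⁻¹ᵁ V) := fnL σ₁ a₁ rfl le_rfl
  let g₀ : Γ(Z₀₁, i₁ ⁻¹ᵁ V) →ₗ[B] Γ(Y₀₁, σ₀₁ ⁻¹ᵁ i₁ ⁻¹ᵁ V) := fnL σ₀₁ (i₁ ≫ a₁) rfl le_rfl
  let gY : Γ(Y₁, σ₁ ⁻¹ᵁ V) →ₗ[B] Γ(Y₀₁, σ₀₁ ⁻¹ᵁ i₁ ⁻¹ᵁ V) :=
    fnL k₁ (σ₁ ≫ a₁) (by rw [← Category.assoc, q₁.pb.w, Category.assoc]) hle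
  let f₀' : Γ(Z₂, V₂) →ₗ[B'] Γ(Z₀₂, i₂ ⁻¹ᵁ V₂) := fnL i₂ a₂ rfl le_rfl
  let fY' : Γ(Z₂, V₂) →ₗ[B'] Γ(Y₂, σ₂ ⁻¹ᵁ V₂) := fnL σ₂ a₂ rfl le_rfl
  let j : (KP b₁ i₁ σ₁).obj (op U) →ₗ[B] Γ(Z₁, V) :=
    { toFun := kval, map_add' := kval_add, map_smul' := fun r x => kval_smul a₁ r x }
  let j' : (KP b₂ i₂ σ₂).obj (op U) →ₗ[B'] Γ(Z₂, V₂) :=
    { toFun := kval, map_add' := kval_add, map_smul' := fun r x => kval_smul a₂ r x }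
  refine bijective_cb_ker f₀ fY g₀ gY ?_ ?_ ?_ ?_ ?_ f₀' fY' (fnS H e.le) (fnS H₀ e₀.le) (fnS HY eY.le)
    (bijective_bc_fnS H hU e) (bijective_bc_fnS H₀ (hU.preimage i₁) e₀)
    (bijective_bc_fnS HY (hU.preimage σ₁) eY) ?_ ?_ j j' kval_injective kval_injective ?_ ?_
    (kS p p₀ hp hw U) ?_
  · intro x
    obtain ⟨y, hy⟩ := i₁.app_surjective V hU x
    exact ⟨y, (ores_refl _).trans hy⟩
  · intro x
    obtain ⟨y, hy⟩ := σ₁.app_surjective V hU x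
    exact ⟨y, (ores_refl _).trans hy⟩
  · intro x
    obtain ⟨y, hy⟩ := σ₀₁.app_surjective _ (hU.preimage i₁) x
    exact ⟨y, (ores_refl _).trans hy⟩
  · intro x
    change fn σ₀₁ le_rfl (fn i₁ le_rfl x) = fn k₁ hle (fn σ₁ le_rfl x)
    rw [fn_comp, fn_comp]
    exact fn_congr q₁.pb.w.symm _ _
  · intro x hx
    obtain ⟨n, j, h1, h2, h3⟩ := q₁.exists_decomp hU x (by
      have : fn σ₀₁ (le_refl (σ₀₁ ⁻¹ᵁ i₁ ⁻¹ᵁ V)) (fn i₁ (le_refl (i₁ ⁻¹ᵁ V)) x) = 0 := hx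
      rw [fn_apply, fn_apply, ores_refl, ores_refl] at this
      exact this)
    refine ⟨n, j, h1, ?_, ?_⟩
    · change fn i₁ (le_refl (i₁ ⁻¹ᵁ V)) n = 0
      rw [fn_apply, h2, map_zero]
    · change fn σ₁ (le_refl (σ₁ ⁻¹ᵁ V)) j = 0
      rw [fn_apply, h3, map_zero]
  · intro x
    change fn i₂ le_rfl (fn p.h e.le x) = fn p₀.h e₀.le (fn i₁ le_rfl x)
    rw [fn_comp, fn_comp]
    exact fn_congr hp.symm _ _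
  · intro x
    change fn σ₂ le_rfl (fn p.h e.le x) = fn p.k eY.le (fn σ₁ le_rfl x)
    rw [fn_comp, fn_comp]
    exact fn_congr p.sq.symm _ _
  · intro x
    constructor
    · rintro ⟨y, rfl⟩
      constructor
      · change fn i₁ (le_refl (i₁ ⁻¹ᵁ V)) (kval y) = 0
        rw [fn_apply, app_kval₀, map_zero]
      · change fn σ₁ (le_refl (σ₁ ⁻¹ᵁ V)) (kval y) = 0
        rw [fn_apply, app_kval, map_zero]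
    · rintro ⟨h1, h2⟩
      have h1' : ores (le_refl (i₁ ⁻¹ᵁ V)) (i₁.app V x) = 0 := h1
      have h2' : ores (le_refl (σ₁ ⁻¹ᵁ V)) (σ₁.app V x) = 0 := h2
      rw [ores_refl] at h1' h2'
      exact ⟨kmk x h1' h2', rfl⟩
  · rintro x ⟨y, rfl⟩
    constructor
    · change fn i₂ (le_refl (i₂ ⁻¹ᵁ V₂)) (kval y) = 0
      rw [fn_apply, app_kval₀, map_zero]
    · change fn σ₂ (le_refl (σ₂ ⁻¹ᵁ V₂)) (kval y) = 0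
      rw [fn_apply, app_kval, map_zero]
  · intro x
    rfl

include q₁ H H₀ HY in
/-- **Base change of the cochains of `KP`**. -/
theorem bijective_cb_KS [Flat (i₁ ≫ a₁)] [Flat (σ₁ ≫ a₁)] [Flat (σ₀₁ ≫ i₁ ≫ a₁)]
    {ι : Type} [LinearOrder ι] [Fintype ι] (U : ι → W.Opens)
    (hU : ∀ s : Finset ι, s.Nonempty → IsAffineOpen (b₁ ⁻¹ᵁ (s.inf U))) (n : ℕ) :
    Function.Bijective (cb (KS p p₀ hp hw U n)) := by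
  rw [cb_bijective_iff]
  have key : ∀ c : (cech U).B n,
      letI := kM (b := b₁) (i := i₁) (σ := σ₁) a₁ ((cech U).W n c)
      letI := kM (b := b₂) (i := i₂) (σ := σ₂) a₂ ((cech U).W n c)
      Function.Bijective (bc (kS p p₀ hp hw ((cech U).W n c))) := fun c => by
    let i1 := kM (b := b₁) (i := i₁) (σ := σ₁) a₁ ((cech U).W n c)
    let i2 := kM (b := b₂) (i := i₂) (σ := σ₂) a₂ ((cech U).W n c)
    exact (cb_bijective_iff (kS p p₀ hp hw ((cech U).W n c))).1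
      (bijective_cb_kS q₁ p p₀ hp hw H H₀ HY (hU c.1 c.2.1))
  let m1 : ∀ c : (cech U).B n, Module B ((KP b₁ i₁ σ₁).obj (op ((cech U).W n c))) := fun _ => kM a₁ _
  let m2 : ∀ c : (cech U).B n, Module B' ((KP b₂ i₂ σ₂).obj (op ((cech U).W n c))) := fun _ => kM a₂ _
  exact bc_piS_bijective (fun c : (cech U).B n => kS p p₀ hp hw ((cech U).W n c)) key

theorem d_KS {ι : Type} [LinearOrder ι] [Fintype ι] (U : ι → W.Opens) (n : ℕ) (x : KC a₁ b₁ i₁ σ₁ U n) :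
    dK a₂ b₂ i₂ σ₂ U n (KS p p₀ hp hw U n x) = KS p p₀ hp hw U (n + 1) (dK a₁ b₁ i₁ σ₁ U n x) := by
  rw [KS_apply, KS_apply, dK_apply, dK_apply, Data.δ_naturality]

end Sections

end Groth.Agent.Pic13.H958.KCBC
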