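import Groth.Agent.Pic13.H958.KilBC

/-!
# The complex of the cochains of `KP` over a ring

`a : Z ⟶ Spec B`. `KC a b i σ U n` : the ordered Čech cochains of `KP b i σ` as a module over `B`;
`dK a n` : its differential.
-/

set_option autoImplicit false
set_option linter.unusedSectionVars false
universe u

open CategoryTheory CategoryTheory.Limits AlgebraicGeometry TopologicalSpace Opposite TensorProduct

namespace Groth.Agent.Pic13.H958.KMod

open Groth.Agent Groth.Agent.VarietyB.BCAlg Groth.Agent.Ega3B.KunnethAlg Groth.Agent.Ega3B.KunnethSec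
open Groth.Agent.Fdesc Groth.Agent.Fdesc.LocGen Groth.Agent.Picfga
open Groth.Agent.Pic13.H958.RelUnits Groth.Agent.Pic13.H958.AffLift Groth.Agent.Pic13.H958.Ord
open Groth.Agent.Pic13.H958.Kil Groth.Agent.Pic13.H958.KilBC
open Groth.Agent.Ega3B Cube CubeData CombRes CoefSys

variable {B : Type u} [CommRing B] {W Z Z₀ Y : Scheme.{u}}

section Def

variable {b : Z ⟶ W} {i : Z₀ ⟶ Z} {σ : Y ⟶ Z} (a : Z ⟶ Spec (CommRingCat.of B))

/-- The sections of `KP` as a module over `B`. -/
@[reducible] noncomputable def kM (U : W.Opens) : Module B ((KP b i σ).obj (op U)) :=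
  Module.compHom (kil i σ (b ⁻¹ᵁ U)) (toSec B a (b ⁻¹ᵁ U))

theorem kval_smul {U : W.Opens} (r : B) (x : (KP b i σ).obj (op U)) :
    letI := kM (b := b) (i := i) (σ := σ) a U
    kval (r • x) = toSec B a (b ⁻¹ᵁ U) r * kval x := rfl

theorem ores_toSec {V V' : Z.Opens} (h : V' ≤ V) (r : B) : ores h (toSec B a V r) = toSec B a V' r := by
  have := appLE_toSec B a (𝟙 Z) (U := V) (V := V') h r
  rw [Category.id_comp] at this
  rw [← this]
  rfl

/-- Multiplication by an element of `B`. -/
noncomputable def smulP (r : B) : KP b i σ ⟶ KP b i σ where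
  app U := AddCommGrpCat.ofHom
    (letI := kM (b := b) (i := i) (σ := σ) a U.unop
     (DistribSMul.toAddMonoidHom ((KP b i σ).obj (op U.unop)) r :
      (KP b i σ).obj (op U.unop) →+ (KP b i σ).obj (op U.unop)))
  naturality U U' h := by
    ext x
    apply kval_injective
    change toSec B a (b ⁻¹ᵁ U'.unop) r * kval (rs (KP b i σ) (leOfHom h.unop) x) =
      kval (rs (KP b i σ) (leOfHom h.unop)
        (kmk (toSec B a (b ⁻¹ᵁ U.unop) r * kval x) (by rw [map_mul, app_kval₀, mul_zero])
          (by rw [map_mul, app_kval, mul_zero])))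
    rw [kval_rs, kval_rs, kval_kmk, map_mul, ores_toSec]

end Def

variable (a : Z ⟶ Spec (CommRingCat.of B)) (b : Z ⟶ W) (i : Z₀ ⟶ Z) (σ : Y ⟶ Z)
  {ι : Type} [LinearOrder ι] [Fintype ι] (U : ι → W.Opens)

/-- The ordered Čech cochains of `KP`, as a module over `B`. -/
def KC (_ : Z ⟶ Spec (CommRingCat.of B)) (b : Z ⟶ W) (i : Z₀ ⟶ Z) (σ : Y ⟶ Z) (U : ι → W.Opens) (n : ℕ) :
    Type u := (cech U).K n (KP b i σ)

noncomputable instance (n : ℕ) : AddCommGroup (KC a b i σ U n) :=
  inferInstanceAs (AddCommGroup ((cech U).K n (KP b i σ)))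

noncomputable instance (n : ℕ) : Module B (KC a b i σ U n) :=
  letI : ∀ c : (cech U).B n, Module B ((KP b i σ).obj (op ((cech U).W n c))) := fun _ => kM a _
  inferInstanceAs (Module B (∀ c : (cech U).B n, (KP b i σ).obj (op ((cech U).W n c))))

theorem KC_smul (n : ℕ) (r : B) (x : KC a b i σ U n) :
    r • x = (cech U).Kmap n (smulP a r) x := rfl

/-- The differential. -/
noncomputable def dK (n : ℕ) : KC a b i σ U n →ₗ[B] KC a b i σ U (n + 1) where
  toFun x := (cech U).δ n (KP b i σ) x
  map_add' x y := ((cech U).δ n (KP b i σ)).map_add x y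
  map_smul' r x := by
    rw [KC_smul, RingHom.id_apply, KC_smul]
    exact Data.δ_naturality _ _ _ _

theorem dK_apply (n : ℕ) (x : KC a b i σ U n) : dK a b i σ U n x = (cech U).δ n (KP b i σ) x := rfl

theorem dK_comp (n : ℕ) : dK a b i σ U (n + 1) ∘ₗ dK a b i σ U n = 0 := by
  refine LinearMap.ext fun x => ?_
  exact (cech U).δ_δ n x

end Groth.Agent.Pic13.H958.KMod
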