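import Groth.Agent.Pic13.H958.AffLift

/-!
# Local existence of rigid generators
-/

set_option autoImplicit false
set_option linter.unusedSectionVars false
universe u

open CategoryTheory CategoryTheory.Limits AlgebraicGeometry TopologicalSpace Opposite TensorProduct

namespace Groth.Agent.Pic13.H958.LocRig

open Groth.Agent.Fdesc Groth.Agent.Fdesc.LocGen Groth.Agent.Picfga Groth.Agent.Picfga.LineHom
  Groth.Agent.Picfga.LineDescent Groth.Agent.Picfga.LineFam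
open Groth.Agent
open Groth.Agent.CohtopA.Sec (Γs)
open Groth.Agent.Pic13.H958.RelUnits Groth.Agent.Pic13.H602.Rig Groth.Agent.Pic13.H958.Coc
open Groth.Agent.Pic13.H958.AffLift

/-- Locally there are rigid generators. -/
theorem exists_rigid {Z Y : Scheme.{u}} {σ : Y ⟶ Z} [IsClosedImmersion σ] (R : RB σ) (z : Z) :
    ∃ (V : Z.Opens) (_ : z ∈ V) (e : Γ(R.L, V)), Rigid R e := by
  obtain ⟨U', g, hzU', hg⟩ := (isInvertible_iff R.L).1 R.inv z
  obtain ⟨V, hzV, hV⟩ := Fga.SqZero.exists_affine hzU'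
  have hgV : IsGen (LocGen.res R.L hV g) := hg.res hV
  obtain ⟨v, hv, hgv⟩ := (isGen_one (σ ⁻¹ᵁ V.1)).exists_unit (R.ρ.gen hgV)
  by_cases hz : z ∈ Set.range σ
  · obtain ⟨y, rfl⟩ := hz
    obtain ⟨a, rfl⟩ := σ.app_surjective V.1 V.2 v
    have hya : σ y ∈ Z.basicOpen a := by
      have h1 : y ∈ Y.basicOpen (σ.app V.1 a) := by
        rw [Scheme.basicOpen_of_isUnit Y hv]
        exact hzV
      rw [← Scheme.preimage_basicOpen] at h1
      exact h1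
    have hle : Z.basicOpen a ≤ V.1 := Z.basicOpen_le a
    have hu : IsUnit (LocGen.ores hle a) := RingedSpace.isUnit_res_basicOpen _ a
    obtain ⟨c, hc⟩ := hu.exists_left_inv
    refine ⟨Z.basicOpen a, hya, c • LocGen.res R.L hle (LocGen.res R.L hV g), ?_, ?_⟩
    · exact (hgV.res hle).unit_smul (IsUnit.of_mul_eq_one _ hc)
    · rw [R.ρ.smul, R.ρ.res, hgv, res_smul, res_one, smul_smul, ← app_ores σ hle, ← map_mul, hc, map_one,
        one_smul]
  · have hcl : IsClosed (Set.range σ) := σ.isClosedEmbedding.isClosed_range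
    let V' : Z.Opens := V.1 ⊓ ⟨(Set.range σ)ᶜ, hcl.isOpen_compl⟩
    have hle : V' ≤ V.1 := inf_le_left
    refine ⟨V', ⟨hzV, hz⟩, LocGen.res R.L hle (LocGen.res R.L hV g), hgV.res hle, ?_⟩
    have hemp : σ ⁻¹ᵁ V' = ⊥ := by
      ext y
      constructor
      · intro hy
        exact absurd ⟨y, rfl⟩ hy.2
      · intro hy
        exact absurd hy (Set.notMem_empty _)
    refine res_ext (Coh.structureModule Y) (fun i : Empty => i.elim) (fun i => i.elim) ?_ (fun i => i.elim)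
    rw [hemp]
    exact bot_le

/-- A closed immersion of square zero is surjective. -/
theorem surjective_of_quad {Z Z₀ Y Y₀ : Scheme.{u}} {i : Z₀ ⟶ Z} {σ : Y ⟶ Z} {σ₀ : Y₀ ⟶ Z₀} {k : Y₀ ⟶ Y}
    (q : Quad i σ σ₀ k) : Function.Surjective i := by
  have := q.ci
  intro z
  by_contra hz
  have hcl : IsClosed (Set.range i) := i.isClosedEmbedding.isClosed_range
  obtain ⟨V, hzV, hV⟩ := Fga.SqZero.exists_affine (U := ⟨(Set.range i)ᶜ, hcl.isOpen_compl⟩) (x := z)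
    (fun h => hz h)
  have hemp : i ⁻¹ᵁ V.1 = ⊥ := by
    ext y
    constructor
    · intro hy
      exact absurd ⟨y, rfl⟩ (hV hy)
    · intro hy
      exact absurd hy (Set.notMem_empty _)
  have hsub : ∀ a b : Γ(Z₀, i ⁻¹ᵁ V.1), a = b := by
    intro a b
    refine ores_ext (fun i : Empty => i.elim) (fun i => i.elim) ?_ (fun i => i.elim)
    rw [hemp]
    exact bot_le
  have h1 : (1 : Γ(Z, V.1)) = 0 := by
    have := q.nil (1 : Γ(Z, V.1)) 1 (hsub _ _) (hsub _ _)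
    rwa [one_mul] at this
  have : Nontrivial Γ(Z, V.1) := by
    have : Nonempty V.1 := ⟨⟨z, hzV⟩⟩
    infer_instance
  exact one_ne_zero h1

/-- Rigid generators of a module on `(Z₀, Y₀)` on neighbourhoods of the points of `Z`. -/
theorem exists_rigid₀ {Z Z₀ Y Y₀ : Scheme.{u}} {i : Z₀ ⟶ Z} {σ : Y ⟶ Z} {σ₀ : Y₀ ⟶ Z₀} {k : Y₀ ⟶ Y}
    (q : Quad i σ σ₀ k) (R₀ : RB σ₀) (z : Z) :
    ∃ (V : Z.Opens) (_ : IsAffineOpen V) (_ : z ∈ V) (e : Γ(R₀.L, i ⁻¹ᵁ V)), Rigid R₀ e := by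
  have := q.ci
  have hcl : IsClosedImmersion σ₀ := MorphismProperty.of_isPullback q.pb q.cσ
  obtain ⟨z₀, rfl⟩ := surjective_of_quad q z
  obtain ⟨V₀, hz₀, e, he⟩ := exists_rigid R₀ z₀
  obtain ⟨V', hV', hVV⟩ := i.isClosedEmbedding.isInducing.isOpen_iff.1 V₀.2
  have hz' : i z₀ ∈ (⟨V', hV'⟩ : Z.Opens) := by
    have : z₀ ∈ i ⁻¹' V' := by rw [hVV]; exact hz₀
    exact this
  obtain ⟨V, hzV, hV⟩ := Fga.SqZero.exists_affine hz'
  have hle : i ⁻¹ᵁ V.1 ≤ V₀ := by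
    intro x hx
    have : x ∈ i ⁻¹' V' := hV hx
    rw [hVV] at this
    exact this
  exact ⟨V.1, V.2, hzV, LocGen.res R₀.L hle e, he.res hle⟩

/-- A finite affine cover with rigid generators. -/
theorem exists_cover {Z Z₀ Y Y₀ : Scheme.{u}} {i : Z₀ ⟶ Z} {σ : Y ⟶ Z} {σ₀ : Y₀ ⟶ Z₀} {k : Y₀ ⟶ Y}
    (q : Quad i σ σ₀ k) [CompactSpace Z] (R₀ : RB σ₀) :
    ∃ (n : ℕ) (U : Fin n → Z.Opens), (⨆ a, U a = ⊤) ∧ (∀ a, IsAffineOpen (U a)) ∧
      ∃ e : ∀ a, Γ(R₀.L, i ⁻¹ᵁ U a), ∀ a, Rigid R₀ (e a) := by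
  choose V hV hz e he using exists_rigid₀ q R₀
  obtain ⟨t, ht⟩ := isCompact_univ.elim_finite_subcover (fun z => (V z : Set Z)) (fun z => (V z).2)
    (fun z _ => Set.mem_iUnion.2 ⟨z, hz z⟩)
  let E := t.equivFin
  refine ⟨t.card, fun a => V (E.symm a).1, ?_, fun a => hV _, fun a => e _, fun a => he _⟩
  rw [eq_top_iff]
  intro z _
  obtain ⟨z', hz', hzz'⟩ := Set.mem_iUnion₂.1 (ht (Set.mem_univ z))
  refine Opens.mem_iSup.2 ⟨E ⟨z', hz'⟩, ?_⟩
  change z ∈ V (E.symm (E ⟨z', hz'⟩)).1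
  rw [Equiv.symm_apply_apply]
  exact hzz'

end Groth.Agent.Pic13.H958.LocRig
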