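import Groth.Agent.Pic13.H138.Finite

/-!
# Roots of bounded families of classes of invertible modules

If `tau0 k X` is bounded then so is `{a | a ^ n ∈ A}` for every bounded set `A` of classes and `0 < n`.
-/

set_option autoImplicit false
universe u

open CategoryTheory CategoryTheory.Limits AlgebraicGeometry

namespace Groth.Agent.Pic13.H958.Roots

open Groth.Agent.Grpsch.PicGrp Groth.Agent.Pic13.H138.Slice Groth.Agent.Pic13.H138.AlgEquiv
open Groth.Agent.Pic13.H138.BddPic Groth.Agent.Pic13.H138.Finite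

variable {k : Type u} [Field k] [IsAlgClosed k]

local notation "Sk" => Spec (CommRingCat.of k)

variable {X : Scheme.{u}} [X.Over (Spec (CommRingCat.of k))]

/-- Roots of a bounded set lie in finitely many translates of `tau0`. -/
theorem exists_finite_roots {A : Set (Pic X)} (hA : BddPic k X A) {n : ℕ} (hn : 0 < n) :
    ∃ s : Set (Pic X), s.Finite ∧ ∀ a, a ^ n ∈ A → ∃ r ∈ s, r⁻¹ * a ∈ tau0 k X := by
  classical
  obtain ⟨s, hs, -, h⟩ := exists_finite hA
  let f : Pic X → Pic X := fun b => if hb : ∃ a : Pic X, AlgEq k X b (a ^ n) then hb.choose else 1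
  refine ⟨f '' s, hs.image f, fun a ha => ?_⟩
  obtain ⟨b, hb, hab⟩ := h _ ha
  have hex : ∃ a : Pic X, AlgEq k X b (a ^ n) := ⟨a, hab⟩
  refine ⟨f b, ⟨b, hb, rfl⟩, ?_⟩
  have hf : f b = hex.choose := dif_pos hex
  have h1 : AlgEq k X b ((f b) ^ n) := by rw [hf]; exact hex.choose_spec
  refine mem_tau0_of_pow_mem hn (alg0_le_tau0 ?_)
  have h2 := h1.symm.trans hab
  rw [algEq_iff_mem] at h2
  have h3 := inv_mem h2
  rwa [mul_inv, inv_inv, ← inv_pow, ← mul_pow] at h3

/-- **Roots of a bounded set of classes form a bounded set**, given that `tau0` is bounded. -/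
theorem bddPic_roots (hτ : BddPic k X (tau0 k X : Set (Pic X))) {A : Set (Pic X)}
    (hA : BddPic k X A) {n : ℕ} (hn : 0 < n) : BddPic k X {a | a ^ n ∈ A} := by
  obtain ⟨s, hs, h⟩ := exists_finite_roots hA hn
  refine (BddPic.biUnion hs (fun r => (fun a => r * a) '' (tau0 k X : Set (Pic X)))
    (fun r _ => hτ.smul r)).mono ?_
  intro a ha
  obtain ⟨r, hr, hra⟩ := h a ha
  rw [Set.mem_iUnion₂]
  exact ⟨r, hr, r⁻¹ * a, hra, mul_inv_cancel_left r a⟩

/-- A bounded set of classes gives a bounded family of modules. -/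
theorem isBounded_of_bddPic {A : Set (Pic X)} (hA : BddPic k X A)
    (hcoh : ∀ {T : Scheme.{u}} (q : T ⟶ Sk) [LocallyOfFiniteType q] (M : (Pic13.prodK k X q).Modules),
      PicF.IsInvertible M → Coh.IsCoh M) (P : X.Modules → Prop)
    (hP : ∀ L, P L → ∃ hL : PicF.IsInvertible L, mk L hL ∈ A) : Pic13.IsBounded k X P := by
  obtain ⟨T, q, h1, h2, c, hc⟩ := hA
  obtain ⟨F, hF, rfl⟩ := exists_mk c
  refine ⟨T, q, h1, h2, F, hcoh q F hF, fun L hL => ?_⟩
  obtain ⟨hL, hm⟩ := hP L hL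
  obtain ⟨t, ht, e⟩ := hc _ hm
  exact ⟨t, ht, (mk_eq_iff _ _).mp e⟩

/-- `S4292` from the boundedness of `tau0` and the bridge from bounded families of invertible modules
to bounded sets of classes. -/
theorem main (hτ : BddPic k X (tau0 k X : Set (Pic X)))
    (hcoh : ∀ {T : Scheme.{u}} (q : T ⟶ Sk) [LocallyOfFiniteType q] (M : (Pic13.prodK k X q).Modules),
      PicF.IsInvertible M → Coh.IsCoh M)
    (bridge : ∀ P : X.Modules → Prop, Pic13.IsBounded k X P → (∀ L, P L → PicF.IsInvertible L) →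
      BddPic k X {a | ∃ (L : X.Modules) (hL : PicF.IsInvertible L), P L ∧ a = mk L hL})
    {n : ℕ} (hn : 0 < n) (P : X.Modules → Prop) (hP : Pic13.IsBounded k X P) :
    Pic13.IsBounded k X (fun M : X.Modules => PicF.IsInvertible M ∧
      ∃ L : X.Modules, P L ∧ Nonempty (CohB1.tensorPow M n ≅ L)) := by
  have hP' : Pic13.IsBounded k X (fun L => P L ∧ PicF.IsInvertible L) := by
    obtain ⟨T, q, h1, h2, F, hF, h⟩ := hP
    exact ⟨T, q, h1, h2, F, hF, fun L hL => h L hL.1⟩
  have hb := bridge _ hP' (fun L hL => hL.2)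
  refine isBounded_of_bddPic (bddPic_roots hτ hb hn) hcoh _ ?_
  rintro M ⟨hM, L, hL, ⟨e⟩⟩
  have hLi : PicF.IsInvertible L := isInvertible_of_iso e (Fdesc.LocGen.isInvertible_tensorPow hM n)
  refine ⟨hM, L, hLi, ⟨hL, hLi⟩, ?_⟩
  rw [← mk_tensorPow]
  exact mk_congr e

end Groth.Agent.Pic13.H958.Roots
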